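import Cfsg.Agent.Lib.QTWreath.Cycle

/-!
The two possible fusion patterns.

Blueprint: `blueprint/S1829.md`.
-/

set_option autoImplicit false
set_option linter.unusedSectionVars false
set_option linter.style.haveILetI false

universe u

namespace CfsgLib.QTWreath

open Cfsg Subgroup

variable {G : Type u} [Group G] [Finite G]

theorem tz_conj : vp * (tp * zp) * vp⁻¹ = tp := by decide

theorem w_mul : ∀ a b : P4, InW a → InW b → InW (a * b) := by decide +kernel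

theorem vd_V : ∀ d : P4, (d = 1 ∨ d = zp) → InV (vp * d) ∧ vp * d ≠ 1 ∧ InD8 (vp * d) := by decide +kernel

namespace Cfg

variable (c : Cfg G)

/-- The image of `(1, v)` stays in its coset modulo the centre of `W × D₈`. -/
def VFix (n : G) : Prop :=
  ∃ a d : P4, InW a ∧ (d = 1 ∨ d = zp) ∧ n * c.g 1 vp * n⁻¹ = c.g a (vp * d)

theorem vfix_mul {m n : G} (hm : m ∈ normalizer (c.R : Set G)) (h1 : c.VFix m) (h2 : c.VFix n) :
    c.VFix (m * n) := by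
  obtain ⟨a, d, ha, hd, e⟩ := h2
  obtain ⟨a', d', ha', hd', e'⟩ := h1
  obtain ⟨a'', d'', ha'', hd'', e''⟩ := c.cen_form (c.cen_conj hm (c.cen_g ha hd))
  refine ⟨a' * a'', d' * d'', w_mul _ _ ha' ha'', ?_, ?_⟩
  · rcases hd' with rfl | rfl <;> rcases hd'' with rfl | rfl <;> simp [basics.2.2.2.1]
  · calc m * n * c.g 1 vp * (m * n)⁻¹ = m * (n * c.g 1 vp * n⁻¹) * m⁻¹ := by group
      _ = m * (c.g 1 vp * c.g a d) * m⁻¹ := by rw [e, c.g_mul, one_mul]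
      _ = m * c.g 1 vp * m⁻¹ * (m * c.g a d * m⁻¹) := by group
      _ = _ := by rw [e', e'', c.g_mul, mul_assoc]

theorem gen_coset {n : G} (hn : n ∈ normalizer (c.R : Set G)) {b₀ : P4} (hb₀ : b₀ = tp ∨ b₀ = vp) :
    ∃ a d : P4, InW a ∧ (d = 1 ∨ d = zp) ∧
      (n * c.g 1 b₀ * n⁻¹ = c.g a (tp * d) ∨ n * c.g 1 b₀ * n⁻¹ = c.g a (vp * d)) := by
  have hd : InD8 b₀ := by rcases hb₀ with rfl | rfl; exacts [d8_mem.2.2.1, d8_mem.2.2.2.1]
  have hsq : b₀ * b₀ = 1 := by rcases hb₀ with rfl | rfl; exacts [basics.2.2.2.2.1, basics.2.2.2.2.2.1]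
  obtain ⟨a, b, -, hw, hb, e⟩ := c.mem_R.mp ((Subgroup.mem_normalizer_iff.mp hn _).mp (c.g_mem_R (Or.inl rfl) hd))
  have hsq2 : b * b = 1 := (c.g_inj (a := a * a) (a' := 1) (b := b * b) (b' := 1) (by
    rw [← c.g_mul, e, show n * c.g 1 b₀ * n⁻¹ * (n * c.g 1 b₀ * n⁻¹) = n * (c.g 1 b₀ * c.g 1 b₀) * n⁻¹ by group,
      c.g_mul, one_mul, hsq, c.g_one, mul_one, mul_inv_cancel])).2
  have hnc : ¬ (b = 1 ∨ b = zp) := fun h => by
    have hc := c.cen_conj (inv_mem hn) (c.cen_g hw h)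
    rw [e, show n⁻¹ * (n * c.g 1 b₀ * n⁻¹) * n⁻¹⁻¹ = c.g 1 b₀ by group] at hc
    obtain ⟨p, q, -, hq, e'⟩ := c.cen_form hc
    obtain ⟨-, rfl⟩ := c.g_inj e'
    rcases hb₀ with rfl | rfl <;> rcases hq with h' | h' <;> exact absurd h' (by decide)
  rcases classV b hb hsq2 with h | h | ⟨d, hd', rfl⟩ | ⟨d, hd', rfl⟩
  · exact absurd (Or.inl h) hnc
  · exact absurd (Or.inr h) hnc
  · exact ⟨a, d, hw, hd', Or.inl e.symm⟩
  · exact ⟨a, d, hw, hd', Or.inr e.symm⟩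

theorem vfix_sq {n : G} (hn : n ∈ normalizer (c.R : Set G)) : c.VFix (n * n) := by
  obtain ⟨a, d, ha, hd, e | e⟩ := c.gen_coset hn (Or.inr rfl : vp = tp ∨ vp = vp)
  swap
  · exact c.vfix_mul hn ⟨a, d, ha, hd, e⟩ ⟨a, d, ha, hd, e⟩
  obtain ⟨a', d', ha', hd', e' | e'⟩ := c.gen_coset hn (Or.inl rfl : tp = tp ∨ tp = vp)
  · -- both generators cannot go to the same coset
    exfalso
    have hdd : tp * d * (tp * d') = d * d' := by
      rcases hd with rfl | rfl <;> rcases hd' with rfl | rfl <;> decide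
    have h1 : n * c.g 1 (vp * tp) * n⁻¹ = c.g (a * a') (d * d') := by
      rw [show c.g 1 (vp * tp) = c.g 1 vp * c.g 1 tp by rw [c.g_mul, one_mul],
        show n * (c.g 1 vp * c.g 1 tp) * n⁻¹ = n * c.g 1 vp * n⁻¹ * (n * c.g 1 tp * n⁻¹) by group, e, e', c.g_mul, hdd]
    have hc := c.cen_conj (inv_mem hn) (c.cen_g (w_mul _ _ ha ha')
      (show d * d' = 1 ∨ d * d' = zp by rcases hd with rfl | rfl <;> rcases hd' with rfl | rfl <;> decide))
    rw [← h1, show n⁻¹ * (n * c.g 1 (vp * tp) * n⁻¹) * n⁻¹⁻¹ = c.g 1 (vp * tp) by group] at hc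
    obtain ⟨p, q, -, hq, e''⟩ := c.cen_form hc
    obtain ⟨-, h2⟩ := c.g_inj e''
    rcases hq with rfl | rfl <;> exact absurd h2 (by decide)
  · obtain ⟨a'', d'', ha'', hd'', e''⟩ := c.cen_form (c.cen_conj hn (c.cen_g ha hd))
    refine ⟨a' * a'', d' * d'', w_mul _ _ ha' ha'', ?_, ?_⟩
    · rcases hd' with rfl | rfl <;> rcases hd'' with rfl | rfl <;> simp [basics.2.2.2.1]
    · calc n * n * c.g 1 vp * (n * n)⁻¹ = n * (n * c.g 1 vp * n⁻¹) * n⁻¹ := by group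
        _ = n * (c.g 1 tp * c.g a d) * n⁻¹ := by rw [e, c.g_mul, one_mul]
        _ = n * c.g 1 tp * n⁻¹ * (n * c.g a d * n⁻¹) := by group
        _ = _ := by rw [e', e'', c.g_mul, mul_assoc]

theorem vfix_odd {n : G} (hn : n ∈ normalizer (c.R : Set G)) (ho : Odd (orderOf n)) : c.VFix n := by
  obtain ⟨m, hm⟩ := ho
  have hall : ∀ k : ℕ, c.VFix ((n * n) ^ k) := by
    intro k
    induction k with
    | zero => exact ⟨1, 1, Or.inl rfl, Or.inl rfl, by simp⟩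
    | succ k ih =>
      rw [pow_succ]
      exact c.vfix_mul (pow_mem (mul_mem hn hn) k) ih (c.vfix_sq hn)
  have := hall (m + 1)
  rwa [← pow_two, ← pow_mul, show 2 * (m + 1) = orderOf n + 1 by omega, pow_succ, pow_orderOf_eq_one, one_mul] at this

/-- Class of `(a, v d)`. -/
theorem class_av {a d : P4} (ha : InW a) (hd : d = 1 ∨ d = zp) :
    (a = 1 ∧ c.IsU (c.g a (vp * d))) ∨ (a = zp ∧ c.IsZ (c.g a (vp * d))) ∨
      ((a = tp ∨ a = tp * zp) ∧ IsConj (c.g tp zp) (c.g a (vp * d))) := by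
  obtain ⟨hV, hne, -⟩ := vd_V d hd
  rcases ha with rfl | rfl | h | h
  · exact Or.inl ⟨rfl, (c.g_U hV hne).2⟩
  · exact Or.inr (Or.inl ⟨rfl, c.g_Z (Or.inr (Or.inl rfl)) basics.1 hV hne⟩)
  all_goals
    refine Or.inr (Or.inr ⟨by simp [h], ?_⟩)
    obtain ⟨k, hk⟩ := v_fused _ hV hne
    subst h
  · have := c.g_isConj tp zp 1 k
    rwa [hk, one_mul, inv_one, mul_one] at this
  · have := c.g_isConj tp zp vp k
    rwa [hk, show vp * tp * vp⁻¹ = tp * zp from sq_eq.2.1] at this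

/-- The first pattern: that of `A₁₀`. -/
def CaseI (d : G) : Prop :=
  d * c.z1 * d⁻¹ = c.g (tp * zp) 1 ∧ d * c.g (tp * zp) 1 * d⁻¹ = c.g tp 1 ∧ d * c.g tp 1 * d⁻¹ = c.z1 ∧
    d * c.g 1 vp * d⁻¹ = c.g 1 vp ∧ c.IsU (c.g tp 1) ∧ c.IsZ (c.g tp zp)

/-- The twisted pattern. -/
def CaseII (d : G) : Prop :=
  d * c.zz * d⁻¹ = c.g (tp * zp) 1 ∧ d * c.g (tp * zp) 1 * d⁻¹ = c.g tp 1 ∧ d * c.g tp 1 * d⁻¹ = c.zz ∧
    d * c.g zp vp * d⁻¹ = c.g zp vp ∧ c.IsU (c.g tp zp) ∧ c.IsZ (c.g tp 1)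

theorem exists_case [IsSimpleGroup G] (h4 : 4 ≤ Nat.card G) :
    ∃ d : G, d ∈ normalizer (c.R : Set G) ∧ Odd (orderOf d) ∧ d * c.z2 * d⁻¹ = c.z2 ∧
      (c.CaseI d ∨ c.CaseII d) := by
  obtain ⟨d, hodd, h0, h2, h1⟩ := c.exists_odd_cycle h4
  have hz := c.fix_z2 d.2
  refine ⟨d, d.2, hodd, hz, ?_⟩
  obtain ⟨d, hdN⟩ := d
  simp only at hodd hz ⊢
  have s0 := c.act_spec ⟨d, hdN⟩ 0
  have s2 := c.act_spec ⟨d, hdN⟩ 2
  have s1 := c.act_spec ⟨d, hdN⟩ 1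
  rw [← c.pi_apply, h0] at s0
  rw [← c.pi_apply, h2] at s2
  rw [← c.pi_apply, h1] at s1
  change d * c.z1 * d⁻¹ = c.g (tp * zp) 1 ∨ d * c.z1 * d⁻¹ = c.g (tp * zp) 1 * c.z2 at s0
  change d * c.g (tp * zp) 1 * d⁻¹ = c.g tp 1 ∨ d * c.g (tp * zp) 1 * d⁻¹ = c.g tp 1 * c.z2 at s2
  change d * c.g tp 1 * d⁻¹ = c.z1 ∨ d * c.g tp 1 * d⁻¹ = c.z1 * c.z2 at s1
  have mz : ∀ {x y : G}, d * x * d⁻¹ = y → d * (x * c.z2) * d⁻¹ = y * c.z2 := fun {x y} e => by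
    rw [show d * (x * c.z2) * d⁻¹ = d * x * d⁻¹ * (d * c.z2 * d⁻¹) by group, e, hz]
  have cancel : ∀ x : G, x * c.z2 * c.z2 = x := fun x => by rw [mul_assoc, c.z2_sq, mul_one]
  have hU1 : c.IsU c.z1 := IsConj.refl _
  have hZ : c.IsZ c.zz := IsConj.refl _
  have tuz : IsConj (c.g (tp * zp) zp) (c.g tp zp) := by
    have := c.g_isConj (tp * zp) zp vp 1
    rwa [tz_conj, one_mul, inv_one, mul_one] at this
  have tzt : IsConj (c.g (tp * zp) 1) (c.g tp 1) := by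
    have := c.g_isConj (tp * zp) 1 vp 1
    rwa [tz_conj, show (1 : P4) * 1 * 1⁻¹ = 1 by group] at this
  have gz : ∀ a : P4, c.g a 1 * c.z2 = c.g a zp := fun a => by rw [z2, c.g_mul, mul_one, one_mul]
  have three : d * (d * (d * c.z1 * d⁻¹) * d⁻¹) * d⁻¹ = c.z1 := by
    have hfix : d ^ 3 * c.z1 * (d ^ 3)⁻¹ = c.z1 := by
      refine odd_fix c.z2_sq ?_ (hodd.of_dvd_nat (orderOf_pow_dvd 3)) ?_
      · calc d ^ 3 * c.z2 * (d ^ 3)⁻¹ = d * (d * (d * c.z2 * d⁻¹) * d⁻¹) * d⁻¹ := by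
              rw [pow_succ, pow_two]; group
          _ = c.z2 := by rw [hz, hz, hz]
      · rw [show d ^ 3 * c.z1 * (d ^ 3)⁻¹ = d * (d * (d * c.z1 * d⁻¹) * d⁻¹) * d⁻¹ by
          rw [pow_succ, pow_two]; group]
        rcases s0 with a | a <;> rcases s2 with b | b <;> rcases s1 with e | e
        all_goals simp only [a, b, e, mz b, mz e, mz (mz e), cancel, true_or, or_true]
    calc d * (d * (d * c.z1 * d⁻¹) * d⁻¹) * d⁻¹ = d ^ 3 * c.z1 * (d ^ 3)⁻¹ := by rw [pow_succ, pow_two]; group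
      _ = c.z1 := hfix
  obtain ⟨a, e', ha, he', ev⟩ := c.vfix_odd hdN hodd
  rcases s0 with s0 | s0
  · -- `t` is in the class of `z₁`
    have hUt : c.IsU (c.g tp 1) := (c.U_conj_iff d).mpr hU1 |> fun h => (s0 ▸ h : c.IsU (c.g (tp * zp) 1)).trans tzt
    have hZtu : c.IsZ (c.g tp zp) := by
      have h := c.Z_conj hZ d
      rw [← c.z1_mul_z2, mz s0, gz] at h
      exact h.trans tuz
    rcases s2 with s2 | s2
    swap
    · exfalso
      refine c.U_ne_Z ?_ hZtu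
      have h := c.U_conj (c.U_conj hU1 d) d
      rwa [s0, s2, gz] at h
    rw [s0, s2] at three
    refine Or.inl ⟨s0, s2, three, ?_, hUt, hZtu⟩
    have hUy : c.IsU (c.g a (vp * e')) := ev ▸ c.U_conj (c.g_U (a := vp) (by decide) basics.2.2.1).2 d
    rcases c.class_av ha he' with ⟨rfl, -⟩ | ⟨-, h⟩ | ⟨-, h⟩
    · refine odd_fix c.z2_sq hz hodd ?_
      rcases he' with rfl | rfl
      · left; rw [ev, mul_one]
      · right; rw [ev, z2, c.g_mul, one_mul]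
    · exact absurd h fun h => c.U_ne_Z hUy h
    · exact absurd h fun h => c.U_ne_Z hUy (hZtu.trans h)
  · have hUtu : c.IsU (c.g tp zp) := by
      have h := c.U_conj hU1 d
      rw [s0, gz] at h
      exact h.trans tuz
    have k0 : d * c.zz * d⁻¹ = c.g (tp * zp) 1 := by rw [← c.z1_mul_z2, mz s0, cancel]
    have hZt : c.IsZ (c.g tp 1) := by
      have h := c.Z_conj hZ d
      rw [k0] at h
      exact h.trans tzt
    rcases s2 with s2 | s2
    swap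
    · exfalso
      refine c.U_ne_Z ?_ hZt
      have h := c.U_conj (c.U_conj hU1 d) d
      rwa [s0, mz s2, cancel] at h
    rw [s0, mz s2] at three
    have k1 : d * c.g tp 1 * d⁻¹ = c.zz := by
      have h := mz three
      rwa [cancel, c.z1_mul_z2] at h
    refine Or.inr ⟨k0, s2, k1, ?_, hUtu, hZt⟩
    have e1 : d * c.g zp vp * d⁻¹ = c.g (tp * zp * a) (zp * (vp * e')) := by
      rw [show c.g zp vp = c.z1 * c.g 1 vp by rw [z1, c.g_mul, mul_one, one_mul],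
        show d * (c.z1 * c.g 1 vp) * d⁻¹ = d * c.z1 * d⁻¹ * (d * c.g 1 vp * d⁻¹) by group, s0, ev, gz, c.g_mul]
    obtain ⟨e'', he'', hee⟩ : ∃ e'', (e'' = 1 ∨ e'' = zp) ∧ zp * (vp * e') = vp * e'' := by
      rcases he' with rfl | rfl
      · exact ⟨zp, Or.inr rfl, by decide⟩
      · exact ⟨1, Or.inl rfl, by decide⟩
    rw [hee] at e1
    have hZx : c.IsZ (c.g (tp * zp * a) (vp * e'')) :=
      e1 ▸ c.Z_conj (c.g_Z (a := zp) (b := vp) (by decide) basics.1 (by decide) basics.2.2.1) d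
    rcases c.class_av (w_mul _ _ (Or.inr (Or.inr (Or.inr rfl))) ha) he'' with ⟨-, h⟩ | ⟨h, -⟩ | ⟨-, h⟩
    · exact absurd hZx fun h' => c.U_ne_Z h h'
    · refine odd_fix c.z2_sq hz hodd ?_
      rw [h] at e1
      rcases he'' with rfl | rfl
      · left; rw [e1, mul_one]
      · right; rw [e1, z2, c.g_mul, mul_one]
    · exact absurd hZx fun h' => c.U_ne_Z (hUtu.trans h) h'

end Cfg

end CfsgLib.QTWreath
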