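import Mathlib.GroupTheory.SpecificGroups.Alternating.Simple
import Cfsg.Prelude.Def_Local
import Cfsg.Agent.S3035
import Cfsg.Agent.Lib.J3Type.GlThree
import Cfsg.Agent.Lib.QTWreath.Cases

/-!
`C(V₂)/V₂` in the first pattern: it is `A₆` (excluded by quasithinness) or `L₃(2)`.

Blueprint: `blueprint/S1829.md`.
-/

set_option autoImplicit false
set_option linter.unusedSectionVars false
set_option linter.style.haveILetI false

universe u

namespace CfsgLib.QTWreath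

open Cfsg Subgroup

variable {G : Type u} [Group G] [Finite G]

/-- The dihedral group inside `S₄`. -/
def dihFun : DihedralGroup 4 → P4
  | .r i => (tp * vp) ^ i.val
  | .sr i => tp * (tp * vp) ^ i.val

theorem dih_facts : (∀ x y, dihFun (x * y) = dihFun x * dihFun y) ∧ (∀ x y, dihFun x = dihFun y → x = y) ∧
    (∀ x, InD8 (dihFun x)) ∧ ∀ a : P4, InD8 a → ∃ x, dihFun x = a := by decide +kernel

theorem vp_pow_facts : ∀ i j : Fin 3, cp ^ (i : ℕ) * zp * (cp ^ (i : ℕ))⁻¹ = cp ^ (j : ℕ) * zp * (cp ^ (j : ℕ))⁻¹ →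
    i = j := by decide +kernel

namespace Cfg

variable (c : Cfg G)

/-- `C(V₂)`. -/
def CV : Subgroup G := centralizer ({c.z2} : Set G) ⊓ centralizer ({c.g 1 vp} : Set G)

/-- `V₂`. -/
def V2 : Subgroup G :=
  ((⊥ : Subgroup P4).prod ((centralizer ({zp} : Set P4)) ⊓ centralizer ({vp} : Set P4))).map c.f

theorem mem_V2 {x : G} : x ∈ c.V2 ↔ ∃ b : P4, InV b ∧ c.g 1 b = x := by
  constructor
  · rintro ⟨⟨a, b⟩, h, rfl⟩
    have ha : a = 1 := h.1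
    subst ha
    exact ⟨b, (comm_vp b (mem_d8.mp h.2.1)).mp (Subgroup.mem_centralizer_singleton_iff.mp h.2.2), rfl⟩
  · rintro ⟨b, hb, rfl⟩
    have hbd : InD8 b := by
      rcases hb with rfl | rfl | rfl | rfl
      exacts [d8_mem.1, d8_mem.2.1, d8_mem.2.2.2.1, d8_mem.2.2.2.2.2]
    exact ⟨(1, b), ⟨Subgroup.mem_bot.mpr rfl, ⟨mem_d8.mpr hbd,
      Subgroup.mem_centralizer_singleton_iff.mpr ((comm_vp b hbd).mpr hb)⟩⟩, rfl⟩

theorem mem_CV {x : G} (h1 : x * c.z2 * x⁻¹ = c.z2) (h2 : x * c.g 1 vp * x⁻¹ = c.g 1 vp) : x ∈ c.CV :=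
  ⟨Subgroup.mem_centralizer_singleton_iff.mpr (mul_inv_eq_iff_eq_mul.mp h1),
    Subgroup.mem_centralizer_singleton_iff.mpr (mul_inv_eq_iff_eq_mul.mp h2)⟩

theorem CV_comm {x w : G} (hx : x ∈ c.CV) (hw : w ∈ c.V2) : x * w = w * x := by
  obtain ⟨b, hb, rfl⟩ := c.mem_V2.mp hw
  have h1 := Subgroup.mem_centralizer_singleton_iff.mp hx.1
  have h2 := Subgroup.mem_centralizer_singleton_iff.mp hx.2
  rcases hb with rfl | rfl | rfl | rfl
  · simp [c.g_one]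
  · exact h1
  · exact h2
  · rw [show c.g 1 (vp * zp) = c.g 1 vp * c.z2 by rw [z2, c.g_mul, one_mul], ← mul_assoc, h2, mul_assoc, h1,
      mul_assoc]

theorem V2_sq {w : G} (hw : w ∈ c.V2) : w * w = 1 := by
  obtain ⟨b, hb, rfl⟩ := c.mem_V2.mp hw
  rw [c.g_mul]
  rcases hb with rfl | rfl | rfl | rfl <;> simp [basics.2.2.2.1, basics.2.2.2.2.2.1, c.g_one]
  rw [show vp * zp * (vp * zp) = 1 by decide, c.g_one]

theorem V2_le : c.V2 ≤ c.CV := fun x hx => by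
  obtain ⟨b, hb, rfl⟩ := c.mem_V2.mp hx
  have h : ∀ b : P4, InV b → b * zp * b⁻¹ = zp ∧ b * vp * b⁻¹ = vp := by decide +kernel
  refine c.mem_CV ?_ ?_
  · rw [z2, c.g_conj, (h b hb).1, show (1 : P4) * 1 * 1⁻¹ = 1 by group]
  · rw [c.g_conj, (h b hb).2, show (1 : P4) * 1 * 1⁻¹ = 1 by group]

theorem fst_mem_CV (a : P4) : c.g a 1 ∈ c.CV := by
  refine c.mem_CV ?_ ?_
  · rw [z2, c.g_conj]; simp
  · rw [c.g_conj]; simp

/-- `C(V₂) ∩ C(W × 1) = W × V`. -/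
theorem CV_small (hE : IsOfEvenCharacteristic G) {x : G} (hx : x ∈ c.CV) (h1 : x * c.z1 = c.z1 * x)
    (h2 : x * c.g tp 1 = c.g tp 1 * x) : ∃ a b : P4, InW a ∧ InV b ∧ c.g a b = x := by
  have hK : x ∈ c.K := ⟨Subgroup.mem_centralizer_singleton_iff.mpr h1, hx.1⟩
  rw [c.K_eq hE] at hK
  obtain ⟨a, b, ha, hb, rfl⟩ := c.mem_D.mp hK
  exact ⟨a, b, (comm_tp a ha).mp (c.g_commute h2).1,
    (comm_vp b hb).mp (c.g_commute (Subgroup.mem_centralizer_singleton_iff.mp hx.2)).2, rfl⟩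

/-- Elements of `C(V₂)` fixed by `n` modulo `V₂`. -/
def Fx (n : G) : Subgroup ↥c.CV where
  carrier := {x | n * (x : G) * n⁻¹ * (x : G)⁻¹ ∈ c.V2}
  one_mem' := by simp
  mul_mem' := by
    intro x y hx hy
    show n * ((x : G) * y) * n⁻¹ * ((x : G) * y)⁻¹ ∈ c.V2
    rw [show n * ((x : G) * y) * n⁻¹ * ((x : G) * y)⁻¹ =
      n * x * n⁻¹ * (n * y * n⁻¹ * (y : G)⁻¹) * (x : G)⁻¹ by group,
      show n * x * n⁻¹ * (n * y * n⁻¹ * (y : G)⁻¹) * (x : G)⁻¹ =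
        n * x * n⁻¹ * (x : G)⁻¹ * ((x : G) * (n * y * n⁻¹ * (y : G)⁻¹) * (x : G)⁻¹) by group,
      c.CV_comm x.2 hy, mul_inv_cancel_right]
    exact mul_mem hx hy
  inv_mem' := by
    intro x hx
    replace hx : n * (x : G) * n⁻¹ * (x : G)⁻¹ ∈ c.V2 := hx
    show n * (x : G)⁻¹ * n⁻¹ * ((x : G)⁻¹)⁻¹ ∈ c.V2
    have h := inv_mem hx
    rw [show n * (x : G)⁻¹ * n⁻¹ * ((x : G)⁻¹)⁻¹ =
      (x : G)⁻¹ * (n * x * n⁻¹ * (x : G)⁻¹)⁻¹ * x by group, c.CV_comm (inv_mem x.2) h, mul_assoc, inv_mul_cancel,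
      mul_one]
    exact h

/-- `V₂` inside `C(V₂)`. -/
def V2' : Subgroup ↥c.CV := c.V2.subgroupOf c.CV

instance : c.V2'.Normal := ⟨fun w hw x => by
  show ((x : G) * w * (x : G)⁻¹) ∈ c.V2
  replace hw : (w : G) ∈ c.V2 := hw
  rw [c.CV_comm x.2 hw, mul_inv_cancel_right]
  exact hw⟩

/-- `C(V₂)/V₂`. -/
abbrev X := ↥c.CV ⧸ c.V2'

/-- The first factor in `X`. -/
def iota : P4 →* c.X :=
  (QuotientGroup.mk' c.V2').comp
    { toFun := fun a => ⟨c.g a 1, c.fst_mem_CV a⟩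
      map_one' := Subtype.ext c.g_one
      map_mul' := fun a b => Subtype.ext (by simp [c.g_mul]) }

theorem iota_apply (a : P4) : c.iota a = (QuotientGroup.mk' c.V2') ⟨c.g a 1, c.fst_mem_CV a⟩ := rfl

theorem iota_inj : Function.Injective c.iota := (injective_iff_map_eq_one _).mpr fun a ha => by
  obtain ⟨b, -, e⟩ := c.mem_V2.mp ((QuotientGroup.eq_one_iff _).mp ha :)
  exact (c.g_inj e).1.symm

theorem centralizer_iota (hE : IsOfEvenCharacteristic G) :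
    Nonempty (↥(centralizer ({c.iota zp} : Set c.X)) ≃* DihedralGroup 4) := by
  let δ : DihedralGroup 4 →* ↥(centralizer ({c.iota zp} : Set c.X)) :=
    (c.iota.comp (MonoidHom.mk' dihFun dih_facts.1)).codRestrict _ fun x =>
      Subgroup.mem_centralizer_singleton_iff.mpr (by
        show c.iota (dihFun x) * c.iota zp = c.iota zp * c.iota (dihFun x)
        rw [← map_mul, ← map_mul, show dihFun x * zp = zp * dihFun x from dih_facts.2.2.1 x])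
  refine ⟨(MulEquiv.ofBijective δ ⟨fun x y h => dih_facts.2.1 x y (c.iota_inj (congrArg Subtype.val h)), ?_⟩).symm⟩
  rintro ⟨q, hq⟩
  obtain ⟨x, rfl⟩ := QuotientGroup.mk'_surjective c.V2' q
  have hq' := Subgroup.mem_centralizer_singleton_iff.mp hq
  rw [iota_apply, ← map_mul, ← map_mul] at hq'
  have hw : (((x * ⟨c.g zp 1, c.fst_mem_CV zp⟩)⁻¹ * (⟨c.g zp 1, c.fst_mem_CV zp⟩ * x) : ↥c.CV) : G) ∈ c.V2 :=
    (QuotientGroup.eq.mp hq' :)
  obtain ⟨b, hb, e⟩ := c.mem_V2.mp hw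
  change c.g 1 b = ((x : G) * c.z1)⁻¹ * (c.z1 * x) at e
  have e2 : (x : G)⁻¹ * c.z1 * x = c.g zp b := by
    rw [show (x : G)⁻¹ * c.z1 * x = c.z1 * (((x : G) * c.z1)⁻¹ * (c.z1 * x)) by group, ← e, z1, c.g_mul, mul_one,
      one_mul]
  obtain rfl : b = 1 := by
    by_contra hb1
    refine c.U_ne_Z (x := c.g zp b) ?_ (c.g_Z (Or.inr (Or.inl rfl)) basics.1 hb hb1)
    have := c.U_conj (IsConj.refl c.z1 : c.IsU c.z1) (x : G)⁻¹
    rwa [inv_inv, e2] at this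
  have hcomm : (x : G) * c.z1 = c.z1 * x := by
    rw [c.g_one] at e
    exact inv_mul_eq_one.mp e.symm
  have hK : (x : G) ∈ c.K := ⟨Subgroup.mem_centralizer_singleton_iff.mpr hcomm, x.2.1⟩
  rw [c.K_eq hE] at hK
  obtain ⟨a, b', ha, hb', exy⟩ := c.mem_D.mp hK
  obtain ⟨y, rfl⟩ := dih_facts.2.2.2 a ha
  refine ⟨y, Subtype.ext ?_⟩
  show c.iota (dihFun y) = _
  rw [iota_apply]
  refine (QuotientGroup.eq.mpr ?_)
  show (c.g (dihFun y) 1)⁻¹ * (x : G) ∈ c.V2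
  have hv : InV b' := by
    have h2 := Subgroup.mem_centralizer_singleton_iff.mp x.2.2
    rw [← exy] at h2
    exact (comm_vp b' hb').mp (c.g_commute h2).2
  exact c.mem_V2.mpr ⟨b', hv, by rw [← exy, c.g_inv, c.g_mul, inv_mul_cancel, inv_one, one_mul]⟩

end Cfg

end CfsgLib.QTWreath
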