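import Cfsg.Prelude.Def_Quasithin
import Cfsg.Agent.Lib.QTWreath.Quot

/-!
In the first pattern `(t, t)` lies in the class of `z`.

Blueprint: `blueprint/S1829.md`.
-/

set_option autoImplicit false
set_option linter.unusedSectionVars false
set_option linter.style.haveILetI false

universe u

namespace CfsgLib.QTWreath

open Cfsg Subgroup Equiv

variable {G : Type u} [Group G] [Finite G]

/-- The first element of order three of `A₆`. -/
def c1 : Perm (Fin 6) := swap 0 1 * swap 1 2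

/-- The second element of order three of `A₆`. -/
def c2 : Perm (Fin 6) := swap 3 4 * swap 4 5

theorem c_facts : Perm.sign c1 = 1 ∧ Perm.sign c2 = 1 ∧
    c1 ^ 3 = 1 ∧ c2 ^ 3 = 1 ∧ c1 * c2 = c2 * c1 := by decide +kernel

theorem c_pow_facts : ∀ i j k l : Fin 3, c1 ^ (i : ℕ) * c2 ^ (j : ℕ) = c1 ^ (k : ℕ) * c2 ^ (l : ℕ) →
    i = k ∧ j = l := by decide +kernel

theorem cube_one : ∀ a : P4, InW a → a * (a * a) = 1 → a = 1 := by decide +kernel

theorem vtp_invol : ∀ b : P4, InV b → b * tp * (b * tp) = 1 → b = 1 ∨ b = zp := by decide +kernel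

theorem seven : ((Finset.univ : Finset P4).filter fun a => a = 1 ∨ ∃ p q : Fin 4, p ≠ q ∧ a = swap p q).card = 7 ∧
    (∀ a : P4, (a = 1 ∨ ∃ p q : Fin 4, p ≠ q ∧ a = swap p q) → a * a = 1) ∧
    zp * (tp * zp) = tp ∧ tp * zp * tp = zp ∧ zp * tp = tp * zp := by decide +kernel

theorem dih_comm : InD8 (zp * tp⁻¹) ∧ zp * tp⁻¹ * (zp * tp⁻¹) = 1 ∧ zp * tp⁻¹ ≠ 1 := by decide +kernel

theorem cp_InV : ∀ b : P4, InV b → InV (cp⁻¹ * b * cp) ∧ InV (tp⁻¹ * b * tp) ∧ InV (tp * b * tp⁻¹) := by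
  decide +kernel

theorem odd_invol_one {H : Type*} [Group H] [Finite H] {O : Subgroup H} (hO : Odd (Nat.card O)) {w : H}
    (hw : w ∈ O) (h2 : w * w = 1) : w = 1 := by
  have h := Nat.dvd_gcd (orderOf_dvd_of_pow_eq_one (show w ^ 2 = 1 by rw [pow_two, h2]))
    (Subgroup.orderOf_dvd_natCard O hw)
  rw [Nat.coprime_two_left.mpr hO, Nat.dvd_one, orderOf_eq_one_iff] at h
  exact h

namespace Cfg

variable (c : Cfg G)

theorem conj_CV {b₀ : P4} (hb : ∀ b, InV b → InV (b₀⁻¹ * b * b₀)) {x : G} (hx : x ∈ c.CV) :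
    c.g 1 b₀ * x * (c.g 1 b₀)⁻¹ ∈ c.CV := by
  have key : ∀ b, InV b → c.g 1 b₀ * x * (c.g 1 b₀)⁻¹ * c.g 1 b * (c.g 1 b₀ * x * (c.g 1 b₀)⁻¹)⁻¹ = c.g 1 b := by
    intro b hbV
    have h := c.CV_comm hx (c.mem_V2.mpr ⟨_, hb b hbV, rfl⟩)
    calc c.g 1 b₀ * x * (c.g 1 b₀)⁻¹ * c.g 1 b * (c.g 1 b₀ * x * (c.g 1 b₀)⁻¹)⁻¹
        = c.g 1 b₀ * (x * ((c.g 1 b₀)⁻¹ * c.g 1 b * c.g 1 b₀)) * x⁻¹ * (c.g 1 b₀)⁻¹ := by group
      _ = c.g 1 b₀ * ((c.g 1 b₀)⁻¹ * c.g 1 b * c.g 1 b₀ * x) * x⁻¹ * (c.g 1 b₀)⁻¹ := by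
          rw [c.g_inv, c.g_mul, c.g_mul, inv_one, one_mul, one_mul, h]
      _ = _ := by group
  exact c.mem_CV (key zp (Or.inr (Or.inl rfl))) (key vp (Or.inr (Or.inr (Or.inl rfl))))

theorem d_mem_CV {d : G} (hz2 : d * c.z2 * d⁻¹ = c.z2) (h : c.CaseI d) : d ∈ c.CV := c.mem_CV hz2 h.2.2.2.1

/-- The element `(1, b₀)` maps `d` into `d(W × V)`. -/
theorem twist (hE : IsOfEvenCharacteristic G) {b₀ : P4} (hb : ∀ b, InV b → InV (b₀⁻¹ * b * b₀)) {d : G}
    (hz2 : d * c.z2 * d⁻¹ = c.z2) (h : c.CaseI d) :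
    ∃ a b : P4, InW a ∧ InV b ∧ c.g 1 b₀ * d * (c.g 1 b₀)⁻¹ = d * c.g a b := by
  have hdC := c.d_mem_CV hz2 h
  have hm : d⁻¹ * (c.g 1 b₀ * d * (c.g 1 b₀)⁻¹) ∈ c.CV := mul_mem (inv_mem hdC) (c.conj_CV hb hdC)
  have key : ∀ a a' : P4, d * c.g a 1 * d⁻¹ = c.g a' 1 →
      d⁻¹ * (c.g 1 b₀ * d * (c.g 1 b₀)⁻¹) * c.g a 1 = c.g a 1 * (d⁻¹ * (c.g 1 b₀ * d * (c.g 1 b₀)⁻¹)) := by
    intro a a' e
    have hn : ∀ e : P4, c.g 1 b₀ * c.g e 1 * (c.g 1 b₀)⁻¹ = c.g e 1 := fun e => by rw [c.g_conj]; simp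
    refine mul_inv_eq_iff_eq_mul.mp ?_
    calc d⁻¹ * (c.g 1 b₀ * d * (c.g 1 b₀)⁻¹) * c.g a 1 * (d⁻¹ * (c.g 1 b₀ * d * (c.g 1 b₀)⁻¹))⁻¹
        = d⁻¹ * (c.g 1 b₀ * (d * ((c.g 1 b₀)⁻¹ * c.g a 1 * c.g 1 b₀) * d⁻¹) * (c.g 1 b₀)⁻¹) * d := by group
      _ = d⁻¹ * (c.g 1 b₀ * c.g a' 1 * (c.g 1 b₀)⁻¹) * d := by
          rw [show (c.g 1 b₀)⁻¹ * c.g a 1 * c.g 1 b₀ = c.g a 1 by rw [c.g_inv, c.g_mul, c.g_mul]; simp, e]
      _ = _ := by rw [hn, ← e]; group
  obtain ⟨a, b, ha, hb', e⟩ := c.CV_small hE hm (key zp _ h.1) (key tp _ h.2.2.1)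
  exact ⟨a, b, ha, hb', by rw [e, mul_inv_cancel_left]⟩

theorem mk_g {a b : P4} (hb : InV b) (hx : c.g a b ∈ c.CV) :
    (QuotientGroup.mk' c.V2') ⟨c.g a b, hx⟩ = c.iota a := by
  rw [iota_apply]
  refine QuotientGroup.eq.mpr ?_
  show (c.g a b)⁻¹ * c.g a 1 ∈ c.V2
  rw [c.g_inv, c.g_mul, inv_mul_cancel, mul_one]
  have hbi : ∀ b : P4, InV b → InV b⁻¹ := by decide +kernel
  exact c.mem_V2.mpr ⟨_, hbi b hb, rfl⟩

theorem delta_conj {d : G} (hdC : d ∈ c.CV) {a a' : P4} (h : d * c.g a 1 * d⁻¹ = c.g a' 1) :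
    (QuotientGroup.mk' c.V2') ⟨d, hdC⟩ * c.iota a * ((QuotientGroup.mk' c.V2') ⟨d, hdC⟩)⁻¹ = c.iota a' := by
  rw [iota_apply, iota_apply, ← map_inv, ← map_mul, ← map_mul]
  exact congrArg _ (Subtype.ext h)

theorem not_top {δ : c.X} (h3 : δ * c.iota tp * δ⁻¹ = c.iota zp) :
    centralizer ({c.iota zp} : Set c.X) ⊔ oddCore c.X ≠ ⊤ := by
  intro htop
  obtain ⟨k, hk, o, ho, e⟩ := Subgroup.mem_sup_of_normal_right.mp (htop ▸ Subgroup.mem_top δ)
  have hkz := Subgroup.mem_centralizer_singleton_iff.mp hk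
  have e2 : o * c.iota tp * o⁻¹ = c.iota zp := by
    calc o * c.iota tp * o⁻¹ = k⁻¹ * ((k * o) * c.iota tp * (k * o)⁻¹) * k := by group
      _ = k⁻¹ * c.iota zp * k := by rw [e, h3]
      _ = _ := by rw [mul_assoc, ← hkz, inv_mul_cancel_left]
  have hw : c.iota (zp * tp⁻¹) ∈ oddCore c.X := by
    rw [map_mul, map_inv, ← e2, show o * c.iota tp * o⁻¹ * (c.iota tp)⁻¹ =
      o * (c.iota tp * o⁻¹ * (c.iota tp)⁻¹) by group]
    exact mul_mem ho ((inferInstance : (oddCore c.X).Normal).conj_mem _ (inv_mem ho) _)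
  have hodd : Odd (Nat.card (oddCore c.X)) := CfsgLib.odd_card_oddCore
  exact dih_comm.2.2 (c.iota_inj ((odd_invol_one hodd hw (by rw [← map_mul, dih_comm.2.1, map_one])).trans
    c.iota.map_one.symm))

theorem delta_notMem {δ : c.X} (h3 : δ * c.iota tp * δ⁻¹ = c.iota zp) : δ ∉ c.iota.range := by
  rintro ⟨a, rfl⟩
  rw [← map_inv, ← map_mul, ← map_mul] at h3
  have h := congrArg Equiv.Perm.sign (c.iota_inj h3)
  rw [map_mul, map_mul, map_inv, mul_right_comm, mul_inv_cancel, one_mul, signs.1, signs.2.1] at h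
  exact absurd h (by decide)

theorem sym_dvd {δ : c.X} (h3 : δ * c.iota tp * δ⁻¹ = c.iota zp) {k : ℕ} (e : c.X ≃* Perm (Fin k)) :
    24 ∣ Nat.card (alternatingGroup (Fin k)) := by
  set χ : P4 →* ℤˣ := (Equiv.Perm.sign.comp e.toMonoidHom).comp c.iota with hχ
  have hz : χ zp = 1 := by rw [← sq_eq.1, map_mul, Int.units_mul_self]
  have ht : χ tp = 1 := by
    rw [← hz]
    show Equiv.Perm.sign (e (c.iota tp)) = Equiv.Perm.sign (e (c.iota zp))
    rw [← h3, map_mul, map_mul, map_inv, map_mul, map_mul, map_inv, mul_right_comm, mul_inv_cancel, one_mul]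
  have hall : ∀ a : P4, χ a = 1 := fun a => by
    induction a using Equiv.Perm.swap_induction_on with
    | one => exact map_one χ
    | swap_mul f x y hxy ih =>
      obtain ⟨m, hm⟩ := swap_conj x y hxy
      rw [map_mul, ih, mul_one, ← hm, map_mul, map_mul, map_inv, mul_right_comm, mul_inv_cancel, one_mul, ht]
  let ψ : P4 →* ↥(alternatingGroup (Fin k)) :=
    (e.toMonoidHom.comp c.iota).codRestrict _ fun a => Equiv.Perm.mem_alternatingGroup.mpr (hall a)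
  have h := Subgroup.card_dvd_of_injective ψ fun a b h => c.iota_inj (e.injective (congrArg Subtype.val h))
  rwa [Nat.card_perm, Nat.card_fin] at h

/-- The case `L₃(2)`. -/
theorem z_of_168 (hE : IsOfEvenCharacteristic G) {d : G} (hz2 : d * c.z2 * d⁻¹ = c.z2) (h : c.CaseI d)
    (hX : Nat.card c.X = 168) : c.IsZ (c.g tp tp) := by
  have hdC := c.d_mem_CV hz2 h
  obtain ⟨a, b, ha, hb, et⟩ := c.twist hE (fun b hb => (cp_InV b hb).2.1) hz2 h
  by_cases ha1 : a = 1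
  · subst ha1
    have hc : d * c.g 1 b = c.g 1 b * d := c.CV_comm hdC (c.mem_V2.mpr ⟨b, hb, rfl⟩)
    have e1 : d * c.g tp tp * d⁻¹ = c.g zp (b * tp) := by
      have e2 : d * c.g 1 tp * d⁻¹ = c.g 1 (b * tp) := by
        have e3 : c.g 1 tp * d = c.g 1 b * d * c.g 1 tp := by
          rw [← hc]; exact mul_inv_eq_iff_eq_mul.mp et
        have hbb : c.g 1 b * c.g 1 b = 1 := c.V2_sq (c.mem_V2.mpr ⟨b, hb, rfl⟩)
        calc d * c.g 1 tp * d⁻¹ = c.g 1 b * c.g 1 b * d * c.g 1 tp * d⁻¹ := by rw [hbb, one_mul]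
          _ = c.g 1 b * (c.g 1 b * d * c.g 1 tp) * d⁻¹ := by group
          _ = c.g 1 b * c.g 1 tp := by rw [← e3]; group
          _ = _ := by rw [c.g_mul, one_mul]
      rw [show c.g tp tp = c.g tp 1 * c.g 1 tp by rw [c.g_mul, mul_one, one_mul],
        show d * (c.g tp 1 * c.g 1 tp) * d⁻¹ = d * c.g tp 1 * d⁻¹ * (d * c.g 1 tp * d⁻¹) by group, h.2.2.1, e2,
        z1, c.g_mul, mul_one, one_mul]
    have hsq : b * tp * (b * tp) = 1 := by
      have e4 : c.g zp (b * tp) * c.g zp (b * tp) = 1 := by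
        rw [← e1, show d * c.g tp tp * d⁻¹ * (d * c.g tp tp * d⁻¹) = d * (c.g tp tp * c.g tp tp) * d⁻¹ by group,
          c.g_mul, basics.2.2.2.2.1, c.g_one, mul_one, mul_inv_cancel]
      rw [c.g_mul] at e4
      exact (c.g_inj (e4.trans c.g_one.symm)).2
    have hzt : c.IsZ (c.g zp tp) := h.2.2.2.2.2.trans (c.g_isConj_swap tp zp)
    refine (c.Z_conj_iff d).mp ?_
    rw [e1]
    rcases vtp_invol b hb hsq with rfl | rfl
    · rwa [one_mul]
    · refine hzt.trans ?_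
      have := c.g_isConj zp tp 1 vp
      rwa [one_mul, inv_one, mul_one, sq_eq.2.1, ← seven.2.2.2.2] at this
  exfalso
  have hψm : ∀ x : ↥c.CV, c.g 1 tp * (x : G) * (c.g 1 tp)⁻¹ ∈ c.CV := fun x =>
    c.conj_CV (fun b hb => (cp_InV b hb).2.1) x.2
  let ψ : ↥c.CV →* c.X := (QuotientGroup.mk' c.V2').comp
    { toFun := fun x => ⟨_, hψm x⟩
      map_one' := Subtype.ext (by simp)
      map_mul' := fun x y => Subtype.ext (by simp only [Subgroup.coe_mul]; group) }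
  let α : c.X →* c.X := QuotientGroup.lift c.V2' ψ fun w hw => by
    show (QuotientGroup.mk' c.V2') _ = 1
    refine (QuotientGroup.eq_one_iff _).mpr ?_
    show c.g 1 tp * (w : G) * (c.g 1 tp)⁻¹ ∈ c.V2
    obtain ⟨b', hb', e'⟩ := c.mem_V2.mp (hw : (w : G) ∈ c.V2)
    change c.g 1 b' = (w : G) at e'
    rw [← e', c.g_conj]
    exact c.mem_V2.mpr ⟨_, (cp_InV b' hb').2.2, by simp⟩
  have hαi : ∀ e : P4, α (c.iota e) = c.iota e := fun e => by
    show (QuotientGroup.mk' c.V2') _ = _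
    rw [iota_apply]
    exact congrArg _ (Subtype.ext (show c.g 1 tp * c.g e 1 * (c.g 1 tp)⁻¹ = c.g e 1 by rw [c.g_conj]; simp))
  set δ : c.X := (QuotientGroup.mk' c.V2') ⟨d, hdC⟩ with hδ
  have hαδ : α δ = δ * c.iota a := by
    have hg : c.g a b ∈ c.CV := by
      rw [show c.g a b = c.g a 1 * c.g 1 b by rw [c.g_mul, mul_one, one_mul]]
      exact mul_mem (c.fst_mem_CV a) (c.V2_le (c.mem_V2.mpr ⟨b, hb, rfl⟩))
    rw [← c.mk_g hb hg, hδ, ← map_mul]
    exact congrArg (QuotientGroup.mk' c.V2') (Subtype.ext et)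
  let F : Subgroup c.X :=
    { carrier := {x | α x = x}
      one_mem' := map_one α
      mul_mem' := fun {x y} hx hy => by
        show α (x * y) = x * y
        rw [map_mul, (hx : α x = x), (hy : α y = y)]
      inv_mem' := fun {x} hx => by
        show α x⁻¹ = x⁻¹
        rw [map_inv, (hx : α x = x)] }
  have hidx : F.index ≤ 7 := by
    have hle : c.iota.range ≤ F := by rintro _ ⟨e, rfl⟩; exact hαi e
    have h24 : 24 ≤ Nat.card F := le_trans (le_of_eq (by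
      rw [← Nat.card_congr (MonoidHom.ofInjective c.iota_inj).toEquiv, Nat.card_perm, Nat.card_fin]; rfl))
      (Subgroup.card_le_of_le hle)
    have hm := F.card_mul_index
    rw [hX] at hm
    by_contra hh
    have := Nat.mul_le_mul h24 (show 8 ≤ F.index by omega)
    omega
  set κ : c.X → c.X := fun x => x * (α x)⁻¹ with hκ
  let φ : c.X ⧸ F → c.X := fun q => Quotient.liftOn' q κ fun x y hxy => by
    have e : α (x⁻¹ * y) = x⁻¹ * y := QuotientGroup.leftRel_apply.mp hxy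
    show x * (α x)⁻¹ = y * (α y)⁻¹
    rw [map_mul, map_inv] at e
    calc x * (α x)⁻¹ = x * ((α x)⁻¹ * α y) * (α y)⁻¹ := by group
      _ = _ := by rw [e]; group
  have hKc : (Set.range κ).ncard ≤ 7 := by
    have hsub : Set.range κ ⊆ Set.range φ := by rintro _ ⟨x, rfl⟩; exact ⟨x, rfl⟩
    refine le_trans (Set.ncard_le_ncard hsub (Set.toFinite _)) (le_trans ?_ hidx)
    rw [Subgroup.index, ← Nat.card_coe_set_eq]
    exact Nat.card_le_card_of_surjective _ Set.rangeFactorization_surjective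
  have hinv : ∀ (e : P4) (k : c.X), k ∈ Set.range κ → c.iota e * k * (c.iota e)⁻¹ ∈ Set.range κ := by
    rintro e _ ⟨x, rfl⟩
    refine ⟨c.iota e * x, ?_⟩
    show c.iota e * x * (α (c.iota e * x))⁻¹ = c.iota e * (x * (α x)⁻¹) * (c.iota e)⁻¹
    rw [map_mul, hαi]; group
  have hit : c.iota tp ∈ Set.range κ := by
    have hti : ∀ e : P4, InW e → e⁻¹ = e := by decide +kernel
    have hk : ∀ a' : P4, δ * c.iota a * δ⁻¹ = c.iota a' → c.iota a' ∈ Set.range κ := fun a' e => by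
      refine ⟨δ, ?_⟩
      show δ * (α δ)⁻¹ = _
      rw [← e, hαδ, mul_inv_rev, ← map_inv, hti a ha, mul_assoc]
    rcases ha with rfl | rfl | rfl | rfl
    · exact absurd rfl ha1
    · have h1 := hinv vp _ (hk _ (c.delta_conj hdC h.1))
      rwa [← map_inv, ← map_mul, ← map_mul, tz_conj] at h1
    · refine ⟨δ * δ, ?_⟩
      show δ * δ * (α (δ * δ))⁻¹ = _
      rw [map_mul, hαδ]
      calc δ * δ * (δ * c.iota tp * (δ * c.iota tp))⁻¹
          = δ * (δ * (c.iota tp)⁻¹ * δ⁻¹) * (c.iota tp)⁻¹ * δ⁻¹ := by group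
        _ = δ * (c.iota zp * c.iota tp) * δ⁻¹ := by
          rw [← map_inv, hti tp (Or.inr (Or.inr (Or.inl rfl))), c.delta_conj hdC h.2.2.1]; group
        _ = δ * c.iota (tp * zp) * δ⁻¹ := by rw [← map_mul, seven.2.2.2.2]
        _ = _ := c.delta_conj hdC h.2.1
    · exact hk _ (c.delta_conj hdC h.2.1)
  set P : Finset P4 := (Finset.univ : Finset P4).filter fun a => a = 1 ∨ ∃ p q : Fin 4, p ≠ q ∧ a = swap p q
    with hP
  have hsub : c.iota '' (P : Set P4) ⊆ Set.range κ := by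
    rintro _ ⟨e, he, rfl⟩
    rw [hP, Finset.coe_filter] at he
    rcases he.2 with rfl | ⟨p, q, hpq, rfl⟩
    · exact ⟨1, by simp [hκ]⟩
    · obtain ⟨m, hm⟩ := swap_conj p q hpq
      rw [← hm, map_mul, map_mul, map_inv]
      exact hinv m _ hit
  have heq : c.iota '' (P : Set P4) = Set.range κ := Set.eq_of_subset_of_ncard_le hsub (by
    rw [Set.ncard_image_of_injective _ c.iota_inj, Set.ncard_coe_finset, hP, seven.1]; exact hKc) (Set.toFinite _)
  have hsq : ∀ k ∈ Set.range κ, k * k = 1 := by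
    rw [← heq]
    rintro _ ⟨e, he, rfl⟩
    rw [hP, Finset.coe_filter] at he
    rw [← map_mul, seven.2.1 e he.2, map_one]
  have hcomm : ∀ k ∈ Set.range κ, ∀ k' ∈ Set.range κ, k * k' = k' * k := by
    rintro _ ⟨x, rfl⟩ _ ⟨y, rfl⟩
    have h2 := hsq _ ⟨x⁻¹ * y, rfl⟩
    have hA := hsq _ ⟨x, rfl⟩
    have hB := hsq _ ⟨y, rfl⟩
    simp only [hκ] at h2 hA hB ⊢
    rw [map_mul, map_inv] at h2
    set u := x * (α x)⁻¹
    set v := y * (α y)⁻¹
    have hu : u⁻¹ = u := inv_eq_of_mul_eq_one_right hA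
    have hv : v⁻¹ = v := inv_eq_of_mul_eq_one_right hB
    have h4 : v * u⁻¹ * (v * u⁻¹) = 1 := by
      calc v * u⁻¹ * (v * u⁻¹)
          = x * (x⁻¹ * y * ((α x)⁻¹ * α y)⁻¹ * (x⁻¹ * y * ((α x)⁻¹ * α y)⁻¹)) * x⁻¹ := by
            simp only [u, v]; group
        _ = 1 := by rw [h2, mul_one, mul_inv_cancel]
    rw [hu] at h4
    calc u * v = (v * u)⁻¹ := by rw [mul_inv_rev, hu, hv]
      _ = v * u := inv_eq_of_mul_eq_one_right h4
  have m1 : c.iota (swap 0 2) ∈ Set.range κ := hit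
  have m2 : c.iota (swap 0 1) ∈ Set.range κ := heq ▸ ⟨swap 0 1, by
    rw [hP, Finset.coe_filter]; exact ⟨Finset.mem_univ _, Or.inr ⟨0, 1, by decide, rfl⟩⟩, rfl⟩
  have h5 := hcomm _ m1 _ m2
  rw [← map_mul, ← map_mul] at h5
  exact swaps_noncomm (c.iota_inj h5)

/-- The case `A₆`. -/
theorem no_A6 (hE : IsOfEvenCharacteristic G) (hQT : IsQuasithin G) {d : G} (hz2 : d * c.z2 * d⁻¹ = c.z2)
    (h : c.CaseI d) (e : c.X ≃* ↥(alternatingGroup (Fin 6))) : False := by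
  have hdC := c.d_mem_CV hz2 h
  set n := c.g 1 cp with hn
  have hn3 : n * (n * n) = 1 := by
    rw [hn, c.g_mul, c.g_mul, one_mul, one_mul, ← mul_assoc, cp_facts.1, c.g_one]
  have hnV : ∀ w ∈ c.V2, n * w * n⁻¹ ∈ c.V2 := fun w hw => by
    obtain ⟨b, hb, rfl⟩ := c.mem_V2.mp hw
    rw [hn, c.g_conj]
    exact c.mem_V2.mpr ⟨_, cp_facts.2.2.1 b hb, by simp⟩
  obtain ⟨a, b, ha, hb, et⟩ := c.twist hE (fun b hb => (cp_InV b hb).1) hz2 h
  rw [← hn] at et
  obtain rfl : a = 1 := by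
    refine cube_one a ha ?_
    set b1 := cp * b * cp⁻¹
    set b2 := cp * b1 * cp⁻¹
    have s1 : n * c.g a b * n⁻¹ = c.g a b1 := by rw [hn, c.g_conj]; simp [b1]
    have s2 : n * c.g a b1 * n⁻¹ = c.g a b2 := by rw [hn, c.g_conj]; simp [b1, b2]
    have e3 : d = d * c.g a b * c.g a b1 * c.g a b2 := by
      calc d = n * (n * n) * d * (n * (n * n))⁻¹ := by rw [hn3]; simp
        _ = n * (n * (n * d * n⁻¹) * n⁻¹) * n⁻¹ := by group
        _ = n * (n * (d * c.g a b) * n⁻¹) * n⁻¹ := by rw [et]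
        _ = n * (n * d * n⁻¹ * (n * c.g a b * n⁻¹)) * n⁻¹ := by group
        _ = n * (d * c.g a b * c.g a b1) * n⁻¹ := by rw [et, s1]
        _ = n * d * n⁻¹ * (n * c.g a b * n⁻¹) * (n * c.g a b1 * n⁻¹) := by group
        _ = _ := by rw [et, s1, s2]
    rw [mul_assoc (d * c.g a b), c.g_mul, mul_assoc d, c.g_mul, left_eq_mul] at e3
    exact (c.g_inj (e3.trans c.g_one.symm)).1
  have hdF : (⟨d, hdC⟩ : ↥c.CV) ∈ c.Fx n := by
    show n * d * n⁻¹ * d⁻¹ ∈ c.V2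
    rw [et, c.CV_comm hdC (c.mem_V2.mpr ⟨b, hb, rfl⟩), mul_inv_cancel_right]
    exact c.mem_V2.mpr ⟨b, hb, rfl⟩
  set F := (c.Fx n).map (QuotientGroup.mk' c.V2') with hF
  have hiF : c.iota.range ≤ F := by
    rintro _ ⟨e', rfl⟩
    refine ⟨⟨c.g e' 1, c.fst_mem_CV e'⟩, ?_, rfl⟩
    show n * c.g e' 1 * n⁻¹ * (c.g e' 1)⁻¹ ∈ c.V2
    rw [show n * c.g e' 1 * n⁻¹ = c.g e' 1 by rw [hn, c.g_conj]; simp, mul_inv_cancel]
    exact one_mem _
  have h3 := c.delta_conj hdC (show d * c.g tp 1 * d⁻¹ = c.g zp 1 from h.2.2.1)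
  have hX : Nat.card c.X = 360 := by
    rw [Nat.card_congr e.toEquiv, nat_card_alternatingGroup, Nat.card_fin]; rfl
  haveI : IsSimpleGroup ↥(alternatingGroup (Fin 6)) := alternatingGroup.isSimpleGroup (by simp)
  haveI : IsSimpleGroup c.X := e.isSimpleGroup
  have hc24 : Nat.card c.iota.range = 24 := by
    rw [← Nat.card_congr (MonoidHom.ofInjective c.iota_inj).toEquiv, Nat.card_perm, Nat.card_fin]; rfl
  have hFtop : F = ⊤ := by
    have hd24 : 24 ∣ Nat.card F := hc24 ▸ Subgroup.card_dvd_of_le hiF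
    have hne : Nat.card F ≠ 24 := fun h24 => by
      have := Subgroup.eq_of_le_of_card_ge hiF (by rw [h24, hc24])
      exact c.delta_notMem h3 (this ▸ Subgroup.mem_map_of_mem _ hdF)
    have hm := F.card_mul_index
    rw [hX] at hm
    obtain ⟨k, hk⟩ := hd24
    have hidx : F.index ≤ 14 := by
      by_contra hh
      have hkk : 2 ≤ k := by
        rcases k with _ | _ | k
        · rw [mul_zero] at hk; exact absurd hk Nat.card_pos.ne'
        · exact absurd hk hne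
        · omega
      have := Nat.mul_le_mul (show 48 ≤ Nat.card F by omega) (show 15 ≤ F.index by omega)
      omega
    have hdiv : F.index ∣ 15 := ⟨k, by rw [hk] at hm; nlinarith⟩
    rcases F.normalCore_normal.eq_bot_or_eq_top with hb' | ht'
    · exfalso
      have hle5 : F.index ≤ 5 := by
        have := Nat.le_of_dvd (by norm_num) hdiv
        interval_cases hi : F.index <;> omega
      have hd := Subgroup.card_dvd_of_injective (MulAction.toPermHom c.X (c.X ⧸ F))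
        ((MonoidHom.ker_eq_bot_iff _).mp (by rw [← Subgroup.normalCore_eq_ker]; exact hb'))
      rw [hX, Nat.card_perm, ← Subgroup.index_eq_card] at hd
      have := Nat.factorial_dvd_factorial hle5
      exact absurd (hd.trans this) (by decide)
    · exact top_le_iff.mp (ht' ▸ F.normalCore_le)
  -- lifting
  have hsur : ∀ q : c.X, ∃ x : ↥c.CV, x ∈ c.Fx n ∧ (QuotientGroup.mk' c.V2') x = q := fun q => by
    have : q ∈ F := hFtop ▸ Subgroup.mem_top q
    exact Subgroup.mem_map.mp this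
  have lift : ∀ q : c.X, q ^ 3 = 1 → ∃ x : ↥c.CV, (x : G) ^ 3 = 1 ∧ n * (x : G) = x * n ∧
      (QuotientGroup.mk' c.V2') x = q := by
    intro q hq
    obtain ⟨x0, hx0, e0⟩ := hsur q
    have h03 : (x0 : G) ^ 3 ∈ c.V2 := by
      have : x0 ^ 3 ∈ c.V2' := (QuotientGroup.eq_one_iff _).mp (show ((x0 ^ 3 : ↥c.CV) : c.X) = 1 by
        rw [← QuotientGroup.mk'_apply, map_pow, e0, hq])
      exact this
    have h06 : (x0 : G) ^ 6 = 1 := by rw [show 6 = 3 + 3 from rfl, pow_add, c.V2_sq h03]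
    refine ⟨x0 ^ 4, ?_, ?_, ?_⟩
    · rw [SubmonoidClass.coe_pow, ← pow_mul, show 4 * 3 = 6 * 2 from rfl, pow_mul, h06, one_pow]
    · have hx4 : x0 ^ 4 ∈ c.Fx n := pow_mem hx0 4
      have hw : n * ((x0 ^ 4 : ↥c.CV) : G) * n⁻¹ * ((x0 ^ 4 : ↥c.CV) : G)⁻¹ ∈ c.V2 := hx4
      set x := ((x0 ^ 4 : ↥c.CV) : G)
      set w := n * x * n⁻¹ * x⁻¹ with hwdef
      have hx3 : x ^ 3 = 1 := by
        simp only [x, SubmonoidClass.coe_pow]
        rw [← pow_mul, show 4 * 3 = 6 * 2 from rfl, pow_mul, h06, one_pow]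
      have hc : Commute w x := (c.CV_comm (x0 ^ 4).2 hw).symm
      have e1 : n * x * n⁻¹ = w * x := by rw [hwdef]; group
      have hw3 : w ^ 3 = 1 := by
        have e2 : (n * x * n⁻¹) ^ 3 = 1 := by rw [conj_pow, hx3, mul_one, mul_inv_cancel]
        rwa [e1, hc.mul_pow, hx3, mul_one] at e2
      have hw1 : w = 1 := by
        rwa [show 3 = 2 + 1 from rfl, pow_add, pow_two, c.V2_sq hw, one_mul, pow_one] at hw3
      rw [hw1, one_mul] at e1
      exact mul_inv_eq_iff_eq_mul.mp e1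
    · rw [map_pow, e0, show 4 = 3 + 1 from rfl, pow_add, hq, one_mul, pow_one]
  set q1 := e.symm ⟨c1, Equiv.Perm.mem_alternatingGroup.mpr c_facts.1⟩ with hq1
  set q2 := e.symm ⟨c2, Equiv.Perm.mem_alternatingGroup.mpr c_facts.2.1⟩ with hq2
  obtain ⟨x, hx3, hxn, ex⟩ := lift q1 (by rw [hq1, ← map_pow, ← map_one e.symm]; exact congrArg _ (Subtype.ext c_facts.2.2.1))
  obtain ⟨y, hy3, hyn, ey⟩ := lift q2 (by rw [hq2, ← map_pow, ← map_one e.symm]; exact congrArg _ (Subtype.ext c_facts.2.2.2.1))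
  have hxy : (x : G) * y = y * x := by
    have hw : (x : G) * y * (x : G)⁻¹ * (y : G)⁻¹ ∈ c.V2 := by
      have : x * y * x⁻¹ * y⁻¹ ∈ c.V2' := (QuotientGroup.eq_one_iff _).mp (show ((x * y * x⁻¹ * y⁻¹ : ↥c.CV) : c.X) = 1 by
        rw [← QuotientGroup.mk'_apply, map_mul, map_mul, map_mul, map_inv, map_inv, ex, ey]
        have hc : q1 * q2 = q2 * q1 := by
          rw [hq1, hq2, ← map_mul, ← map_mul]; exact congrArg _ (Subtype.ext c_facts.2.2.2.2)
        rw [hc]; group)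
      exact this
    set w := (x : G) * y * (x : G)⁻¹ * (y : G)⁻¹ with hwdef
    have hc : Commute w (y : G) := (c.CV_comm y.2 hw).symm
    have e1 : (x : G) * y * (x : G)⁻¹ = w * y := by rw [hwdef]; group
    have hw3 : w ^ 3 = 1 := by
      have e2 : ((x : G) * y * (x : G)⁻¹) ^ 3 = 1 := by rw [conj_pow, hy3, mul_one, mul_inv_cancel]
      rwa [e1, hc.mul_pow, hy3, mul_one] at e2
    have hw1 : w = 1 := by
      rwa [show 3 = 2 + 1 from rfl, pow_add, pow_two, c.V2_sq hw, one_mul, pow_one] at hw3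
    rw [hw1, one_mul] at e1
    exact mul_inv_eq_iff_eq_mul.mp e1
  -- the elementary group
  have hnN : n ∈ normalizer (c.V2 : Set G) := Subgroup.mem_normalizer_iff.mpr fun w =>
    ⟨hnV w, fun hw => by
      have := hnV _ (hnV _ hw)
      rwa [show n * (n * (n * w * n⁻¹) * n⁻¹) * n⁻¹ = n * (n * n) * w * (n * (n * n))⁻¹ by group, hn3, one_mul,
        inv_one, mul_one] at this⟩
  have hCN : ∀ z : ↥c.CV, (z : G) ∈ normalizer (c.V2 : Set G) := fun z => Subgroup.mem_normalizer_iff.mpr fun w =>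
    ⟨fun hw => by rwa [c.CV_comm z.2 hw, mul_inv_cancel_right], fun hw => by
      have := c.CV_comm (inv_mem z.2) hw
      rw [show (z : G)⁻¹ * ((z : G) * w * (z : G)⁻¹) = w * (z : G)⁻¹ by group] at this
      rwa [← mul_right_cancel this] at hw⟩
  set N := normalizer (c.V2 : Set G) with hN
  have hloc : IsTwoLocal N := ⟨c.V2, fun w => ⟨1, Subtype.ext (by
      show (w : G) ^ (2 ^ 1) = 1
      rw [pow_one, pow_two]; exact c.V2_sq w.2)⟩, fun hbot => c.g_ne_one (Or.inr basics.1)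
        (Subgroup.mem_bot.mp (hbot ▸ (c.mem_V2.mpr ⟨zp, Or.inr (Or.inl rfl), rfl⟩ : c.g 1 zp ∈ c.V2))), hN⟩
  let s : Set ↥N := {⟨n, hnN⟩, ⟨x, hCN x⟩, ⟨y, hCN y⟩}
  set A := Subgroup.closure s with hA
  have hcs : ∀ u ∈ s, ∀ v ∈ s, u * v = v * u := by
    rintro u (rfl | rfl | rfl) v (rfl | rfl | rfl) <;> apply Subtype.ext <;>
      simp only [Subgroup.coe_mul] <;>
      first
      | rfl
      | exact hxn
      | exact hxn.symm
      | exact hyn
      | exact hyn.symm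
      | exact hxy
      | exact hxy.symm
  have hAc : IsMulCommutative A := Subgroup.isMulCommutative_closure hcs
  have hA3 : ∀ u ∈ A, u ^ 3 = 1 := by
    intro u hu
    induction hu using Subgroup.closure_induction with
    | mem v hv =>
      rcases hv with rfl | rfl | rfl <;> apply Subtype.ext <;> simp only [SubmonoidClass.coe_pow, Subgroup.coe_one]
      · rw [pow_succ', pow_two]; exact hn3
      · exact hx3
      · exact hy3
    | one => exact one_pow 3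
    | mul u v hu hv iu iv =>
      have : Commute u v := congrArg Subtype.val (hAc.is_comm.comm ⟨u, hu⟩ ⟨v, hv⟩)
      rw [this.mul_pow, iu, iv, one_mul]
    | inv u _ iu => rw [inv_pow, iu, inv_one]
  have h9 := hQT 3 (by norm_num) (by norm_num) N hloc A hAc hA3
  let f : Fin 3 × Fin 3 × Fin 3 → ↥A := fun p => ⟨⟨n, hnN⟩ ^ (p.1 : ℕ) * ⟨x, hCN x⟩ ^ (p.2.1 : ℕ) *
    ⟨y, hCN y⟩ ^ (p.2.2 : ℕ), mul_mem (mul_mem (pow_mem (Subgroup.subset_closure (by simp [s])) _)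
      (pow_mem (Subgroup.subset_closure (by simp [s])) _)) (pow_mem (Subgroup.subset_closure (by simp [s])) _)⟩
  have hf : Function.Injective f := by
    rintro ⟨i, j, k⟩ ⟨i', j', k'⟩ hij
    have e0 : n ^ (i : ℕ) * (x : G) ^ (j : ℕ) * (y : G) ^ (k : ℕ) =
        n ^ (i' : ℕ) * (x : G) ^ (j' : ℕ) * (y : G) ^ (k' : ℕ) := by
      simpa [f] using congrArg (fun z : ↥A => ((z : ↥N) : G)) hij
    have hnp : ∀ i : ℕ, n ^ i = c.g 1 (cp ^ i) := fun i => by
      rw [hn]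
      induction i with
      | zero => rw [pow_zero, pow_zero, c.g_one]
      | succ m ih => rw [pow_succ, pow_succ, ih, c.g_mul, one_mul]
    have hz : ∀ (i : Fin 3) (j k : ℕ), n ^ (i : ℕ) * (x : G) ^ j * (y : G) ^ k * c.z2 *
        (n ^ (i : ℕ) * (x : G) ^ j * (y : G) ^ k)⁻¹ = c.g 1 (cp ^ (i : ℕ) * zp * (cp ^ (i : ℕ))⁻¹) := by
      intro i j k
      have hxc : ((x : G) ^ j * (y : G) ^ k) * c.z2 = c.z2 * ((x : G) ^ j * (y : G) ^ k) :=
        c.CV_comm (mul_mem (pow_mem x.2 j) (pow_mem y.2 k)) (c.mem_V2.mpr ⟨zp, Or.inr (Or.inl rfl), rfl⟩)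
      rw [mul_assoc (n ^ (i : ℕ)), show n ^ (i : ℕ) * ((x : G) ^ j * (y : G) ^ k) * c.z2 *
          (n ^ (i : ℕ) * ((x : G) ^ j * (y : G) ^ k))⁻¹ = n ^ (i : ℕ) * (((x : G) ^ j * (y : G) ^ k) * c.z2 *
            ((x : G) ^ j * (y : G) ^ k)⁻¹) * (n ^ (i : ℕ))⁻¹ by group, hxc, mul_inv_cancel_right, hnp, z2, c.g_conj]
      simp
    have hi : i = i' := by
      refine vp_pow_facts i i' (c.g_inj (a := 1) (a' := 1) ?_).2
      rw [← hz i j k, e0, hz i' j' k']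
    subst hi
    rw [mul_assoc, mul_assoc, mul_left_cancel_iff] at e0
    have e1 : q1 ^ (j : ℕ) * q2 ^ (k : ℕ) = q1 ^ (j' : ℕ) * q2 ^ (k' : ℕ) := by
      rw [← ex, ← ey, ← map_pow, ← map_pow, ← map_pow, ← map_pow, ← map_mul, ← map_mul]
      exact congrArg _ (Subtype.ext (by simpa using e0))
    have e2 := congrArg (fun q => ((e q : ↥(alternatingGroup (Fin 6))) : Perm (Fin 6))) e1
    simp only [map_mul, map_pow, hq1, hq2, MulEquiv.apply_symm_apply, Subgroup.coe_mul, SubmonoidClass.coe_pow] at e2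
    obtain ⟨rfl, rfl⟩ := c_pow_facts j k j' k' e2
    rfl
  have h27 := Nat.card_le_card_of_injective f hf
  rw [Nat.card_eq_fintype_card, Fintype.card_prod, Fintype.card_prod, Fintype.card_fin] at h27
  omega

/-- In the first pattern `(t, t)` is a `z`-involution. -/
theorem tt_Z (hE : IsOfEvenCharacteristic G) (hQT : IsQuasithin G) {d : G} (hz2 : d * c.z2 * d⁻¹ = c.z2)
    (h : c.CaseI d) : c.IsZ (c.g tp tp) := by
  have hdC := c.d_mem_CV hz2 h
  have h3 := c.delta_conj hdC (show d * c.g tp 1 * d⁻¹ = c.g zp 1 from h.2.2.1)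
  have hz : orderOf (c.iota zp) = 2 := by
    rw [orderOf_injective c.iota c.iota_inj]
    exact orderOf_eq_prime (by rw [pow_two, basics.2.2.2.1]) basics.1
  rcases Cfsg.Agent.S3035.result (c.iota zp) hz (c.centralizer_iota hE) with k | k | k | k | k
  · exact absurd k (c.not_top h3)
  · obtain ⟨e⟩ := k
    have := c.sym_dvd h3 e
    rw [nat_card_alternatingGroup, Nat.card_fin] at this
    exact absurd this (by decide)
  · obtain ⟨e⟩ := k
    have := c.sym_dvd h3 e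
    rw [nat_card_alternatingGroup, Nat.card_fin] at this
    exact absurd this (by decide)
  · obtain ⟨e⟩ := k
    exact c.z_of_168 hE hz2 h ((Nat.card_congr e.toEquiv).trans CfsgLib.J3Type.GlThree.card_SL)
  · obtain ⟨e⟩ := k
    exact (c.no_A6 hE hQT hz2 h e).elim

end Cfg

end CfsgLib.QTWreath
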