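import Mathlib.GroupTheory.Perm.Closure
import Cfsg.Agent.Lib.QTWreath.Cases

/-!
The twisted pattern is impossible: a group of degree five would need a too large Sylow 2-subgroup.

Blueprint: `blueprint/S1829.md`.
-/

set_option autoImplicit false
set_option linter.unusedSectionVars false
set_option linter.style.haveILetI false

universe u

namespace CfsgLib.QTWreath

open Cfsg Subgroup

variable {G : Type u} [Group G] [Finite G]

/-- Coordinates of the five points. -/
def five : Fin 5 → P4 × P4 := ![(tp * zp, 1), (tp, 1), (zp, zp), (zp, vp), (zp, vp * zp)]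

theorem five_inj : Function.Injective five := by decide +kernel

theorem five_mem : ∀ i, InW (five i).1 ∧ InV (five i).2 ∧ InD8 (five i).1 := by decide +kernel

theorem five_split : ∀ a b : P4, InW a → InV b →
    (∃ i, five i = (a, b)) ∨ (a = 1 ∧ b = 1) ∨ (a = 1 ∧ b ≠ 1) ∨ (a = zp ∧ b = 1) ∨
      ((a = tp ∨ a = tp * zp) ∧ b ≠ 1) := by decide +kernel

/-- The three permutations. -/
def pA : Equiv.Perm (Fin 5) := Equiv.swap 0 1 * Equiv.swap 1 2

/-- The permutation induced by the three-cycle of the second factor. -/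
def pB : Equiv.Perm (Fin 5) := Equiv.swap 2 4 * Equiv.swap 4 3

theorem perm_vals : (pA 0 = 1 ∧ pA 1 = 2 ∧ pA 2 = 0 ∧ pA 3 = 3 ∧ pA 4 = 4) ∧
    (∀ i, five (pB i) = ((five i).1, cp * (five i).2 * cp⁻¹)) ∧
    (∀ i, five (Equiv.swap (0 : Fin 5) 1 i) = (vp * (five i).1 * vp⁻¹, (five i).2)) ∧
    (pA * pB) ^ 5 = 1 ∧ pA * pB ≠ 1 ∧ (pA * pB).support = Finset.univ := by decide +kernel

namespace Cfg

variable (c : Cfg G)

/-- `W × V`. -/
def C16 : Subgroup G :=
  (((centralizer ({zp} : Set P4)) ⊓ centralizer ({tp} : Set P4)).prod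
    ((centralizer ({zp} : Set P4)) ⊓ centralizer ({vp} : Set P4))).map c.f

theorem mem_C16 {x : G} : x ∈ c.C16 ↔ ∃ a b : P4, InW a ∧ InV b ∧ c.g a b = x := by
  constructor
  · rintro ⟨⟨a, b⟩, h, rfl⟩
    exact ⟨a, b, (comm_tp a (mem_d8.mp h.1.1)).mp (Subgroup.mem_centralizer_singleton_iff.mp h.1.2),
      (comm_vp b (mem_d8.mp h.2.1)).mp (Subgroup.mem_centralizer_singleton_iff.mp h.2.2), rfl⟩
  · rintro ⟨a, b, ha, hb, rfl⟩
    have had : InD8 a := by
      rcases ha with rfl | rfl | rfl | rfl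
      exacts [d8_mem.1, d8_mem.2.1, d8_mem.2.2.1, d8_mem.2.2.2.2.1]
    have hbd : InD8 b := by
      rcases hb with rfl | rfl | rfl | rfl
      exacts [d8_mem.1, d8_mem.2.1, d8_mem.2.2.2.1, d8_mem.2.2.2.2.2]
    exact ⟨(a, b), ⟨⟨mem_d8.mpr had, Subgroup.mem_centralizer_singleton_iff.mpr ((comm_tp a had).mpr ha)⟩,
      ⟨mem_d8.mpr hbd, Subgroup.mem_centralizer_singleton_iff.mpr ((comm_vp b hbd).mpr hb)⟩⟩, rfl⟩

theorem card_C16 : Nat.card c.C16 = 16 := by
  rw [C16, Subgroup.card_map_of_injective c.inj, Nat.card_congr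
    (((centralizer ({zp} : Set P4)) ⊓ centralizer ({tp} : Set P4)).prodEquiv
      ((centralizer ({zp} : Set P4)) ⊓ centralizer ({vp} : Set P4))).toEquiv, Nat.card_prod,
    show Nat.card ((centralizer ({zp} : Set P4)) ⊓ centralizer ({tp} : Set P4) : Subgroup P4) = 4 from
      (Nat.card_congr (Equiv.subtypeEquivRight fun a => (Subgroup.mem_inf.trans (and_congr mem_d8
        Subgroup.mem_centralizer_singleton_iff) :
          a ∈ (centralizer ({zp} : Set P4)) ⊓ centralizer ({tp} : Set P4) ↔ InD8 a ∧ a * tp = tp * a))).trans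
        (by rw [Nat.card_eq_fintype_card]; decide +kernel),
    show Nat.card ((centralizer ({zp} : Set P4)) ⊓ centralizer ({vp} : Set P4) : Subgroup P4) = 4 from
      (Nat.card_congr (Equiv.subtypeEquivRight fun a => (Subgroup.mem_inf.trans (and_congr mem_d8
        Subgroup.mem_centralizer_singleton_iff) :
          a ∈ (centralizer ({zp} : Set P4)) ⊓ centralizer ({vp} : Set P4) ↔ InD8 a ∧ a * vp = vp * a))).trans
        (by rw [Nat.card_eq_fintype_card]; decide +kernel)]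

theorem conj_C16 {n : G} (h : ∀ a b : P4, InW a → InV b → n * c.g a b * n⁻¹ ∈ c.C16) :
    n ∈ normalizer (c.C16 : Set G) := Subgroup.mem_normalizer_fintype fun x hx => by
  obtain ⟨a, b, ha, hb, rfl⟩ := c.mem_C16.mp hx
  exact h a b ha hb

theorem no_caseII (hE : IsOfEvenCharacteristic G) {d : G} (_hdR : d ∈ normalizer (c.R : Set G))
    (hz2 : d * c.z2 * d⁻¹ = c.z2) (h : c.CaseII d) : False := by
  haveI : Fact (Nat.Prime 2) := ⟨Nat.prime_two⟩
  obtain ⟨k2, k0, k1, k3, hUtu, hZt⟩ := h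
  have hpts : ∀ i, c.IsZ (c.g (five i).1 (five i).2) := by
    intro i
    fin_cases i
    · show c.IsZ (c.g (tp * zp) 1)
      exact k2 ▸ c.Z_conj (IsConj.refl _) d
    · exact hZt
    · exact IsConj.refl _
    · exact c.g_Z (Or.inr (Or.inl rfl)) basics.1 (by decide) basics.2.2.1
    · exact c.g_Z (Or.inr (Or.inl rfl)) basics.1 (by decide) (by decide)
  have honly : ∀ x ∈ c.C16, c.IsZ x → ∃ i, c.g (five i).1 (five i).2 = x := by
    intro x hx hZ
    obtain ⟨a, b, ha, hb, rfl⟩ := c.mem_C16.mp hx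
    rcases five_split a b ha hb with ⟨i, hi⟩ | ⟨rfl, rfl⟩ | ⟨rfl, hb1⟩ | ⟨rfl, rfl⟩ | ⟨hab, hb1⟩
    · exact ⟨i, by rw [hi]⟩
    · rw [c.g_one] at hZ
      exact absurd (isConj_one_left.mp hZ) c.zz_ne
    · exact absurd hZ fun h => c.U_ne_Z (c.g_U hb hb1).2 h
    · exact absurd hZ fun h => c.U_ne_Z (c.g_U (Or.inr (Or.inl rfl)) basics.1).1 h
    · exfalso
      obtain ⟨k, hk⟩ := v_fused b hb hb1
      refine c.U_ne_Z (hUtu.trans ?_) hZ
      rcases hab with rfl | rfl
      · have := c.g_isConj tp zp 1 k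
        rwa [hk, one_mul, inv_one, mul_one] at this
      · have := c.g_isConj tp zp vp k
        rwa [hk, sq_eq.2.1] at this
  have hmem : ∀ i, c.g (five i).1 (five i).2 ∈ c.C16 := fun i =>
    c.mem_C16.mpr ⟨_, _, (five_mem i).1, (five_mem i).2.1, rfl⟩
  set N := normalizer (c.C16 : Set G) with hN
  have hex : ∀ (n : ↥N) (i : Fin 5), ∃ j, c.g (five j).1 (five j).2 = (n : G) * c.g (five i).1 (five i).2 * (n : G)⁻¹ :=
    fun n i => honly _ ((Subgroup.mem_normalizer_iff.mp n.2 _).mp (hmem i)) (c.Z_conj (hpts i) _)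
  choose act hact using hex
  have huniq : ∀ {n : ↥N} {i j : Fin 5},
      c.g (five j).1 (five j).2 = (n : G) * c.g (five i).1 (five i).2 * (n : G)⁻¹ → act n i = j := fun {n i j} e => by
    obtain ⟨e1, e2⟩ := c.g_inj ((hact n i).trans e.symm)
    exact five_inj (Prod.ext e1 e2)
  have hone : ∀ i, act 1 i = i := fun i => huniq (by simp)
  have hmul : ∀ m n i, act (m * n) i = act m (act n i) := fun m n i => huniq (by
    rw [hact m, hact n, Subgroup.coe_mul]; group)
  let π : ↥N →* Equiv.Perm (Fin 5) :=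
    { toFun := fun n =>
        { toFun := act n
          invFun := act n⁻¹
          left_inv := fun i => by rw [← hmul, inv_mul_cancel, hone]
          right_inv := fun i => by rw [← hmul, mul_inv_cancel, hone] }
      map_one' := Equiv.ext hone
      map_mul' := fun m n => Equiv.ext (hmul m n) }
  obtain ⟨⟨pA0, pA1, pA2, pA3, pA4⟩, hpB, hswap, h5, hne1, hsupp⟩ := perm_vals
  have gz : ∀ a : P4, c.g a 1 * c.z2 = c.g a zp := fun a => by rw [z2, c.g_mul, mul_one, one_mul]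
  -- `d`
  have hd3 : d * c.g zp (vp * zp) * d⁻¹ = c.g zp (vp * zp) := by
    rw [show c.g zp (vp * zp) = c.g zp vp * c.z2 by rw [z2, c.g_mul, mul_one],
      show d * (c.g zp vp * c.z2) * d⁻¹ = d * c.g zp vp * d⁻¹ * (d * c.z2 * d⁻¹) by group, k3, hz2]
  have hdN : d ∈ N := by
    have hD : ∀ a b : P4, InW a → InV b → d * c.g a b * d⁻¹ ∈ c.C16 := by
      have hb : ∀ b : P4, InV b → d * c.g 1 b * d⁻¹ ∈ c.C16 := by
        have hy : d * c.g 1 vp * d⁻¹ ∈ c.C16 := by
          rw [show c.g 1 vp = c.zz * c.z2 * c.g zp vp by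
            rw [zz, z2, c.g_mul, c.g_mul, mul_one, basics.2.2.2.1, one_mul]]
          rw [show d * (c.zz * c.z2 * c.g zp vp) * d⁻¹ =
            d * c.zz * d⁻¹ * (d * c.z2 * d⁻¹) * (d * c.g zp vp * d⁻¹) by group, k2, hz2, k3]
          exact mul_mem (mul_mem (hmem 0) (c.mem_C16.mpr ⟨1, zp, Or.inl rfl, Or.inr (Or.inl rfl), rfl⟩)) (hmem 3)
        have hz : c.g 1 zp ∈ c.C16 := c.mem_C16.mpr ⟨1, zp, Or.inl rfl, Or.inr (Or.inl rfl), rfl⟩
        intro b hb
        rcases hb with rfl | rfl | rfl | rfl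
        · rw [c.g_one]; simp
        · rw [← z2, hz2]; exact hz
        · exact hy
        · rw [show c.g 1 (vp * zp) = c.g 1 vp * c.z2 by rw [z2, c.g_mul, one_mul],
            show d * (c.g 1 vp * c.z2) * d⁻¹ = d * c.g 1 vp * d⁻¹ * (d * c.z2 * d⁻¹) by group, hz2]
          exact mul_mem hy hz
      have ha : ∀ a : P4, InW a → d * c.g a 1 * d⁻¹ ∈ c.C16 := by
        intro a ha
        rcases ha with rfl | rfl | rfl | rfl
        · rw [c.g_one]; simp
        · rw [show c.g zp 1 = c.zz * c.z2 by rw [zz, z2, c.g_mul, mul_one, basics.2.2.2.1],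
            show d * (c.zz * c.z2) * d⁻¹ = d * c.zz * d⁻¹ * (d * c.z2 * d⁻¹) by group, k2, hz2]
          exact mul_mem (hmem 0) (c.mem_C16.mpr ⟨1, zp, Or.inl rfl, Or.inr (Or.inl rfl), rfl⟩)
        · rw [k1]; exact hmem 2
        · rw [k0]; exact hmem 1
      intro a b haW hbV
      rw [show c.g a b = c.g a 1 * c.g 1 b by rw [c.g_mul, mul_one, one_mul],
        show d * (c.g a 1 * c.g 1 b) * d⁻¹ = d * c.g a 1 * d⁻¹ * (d * c.g 1 b * d⁻¹) by group]
      exact mul_mem (ha a haW) (hb b hbV)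
    exact c.conj_C16 hD
  have hA : π ⟨d, hdN⟩ = pA := Equiv.ext fun i => by
    refine huniq ?_
    fin_cases i <;> simp only [Fin.zero_eta, Fin.mk_one, Fin.reduceFinMk]
    · rw [pA0]; exact k0.symm
    · rw [pA1]; exact k1.symm
    · rw [pA2]; exact k2.symm
    · rw [pA3]; exact k3.symm
    · rw [pA4]; exact hd3.symm
  -- `(1, c)`
  have hcN : c.g 1 cp ∈ N := c.conj_C16 fun a b ha hb => by
    rw [c.g_conj, one_mul, inv_one, mul_one]
    exact c.mem_C16.mpr ⟨_, _, ha, cp_facts.2.2.1 b hb, rfl⟩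
  have hB : π ⟨_, hcN⟩ = pB := Equiv.ext fun i => by
    refine huniq ?_
    show _ = c.g 1 cp * _ * (c.g 1 cp)⁻¹
    rw [c.g_conj, hpB, one_mul, inv_one, mul_one]
  -- `(v, 1)`
  have hvN : c.g vp 1 ∈ N := c.conj_C16 fun a b ha hb => by
    rw [c.g_conj, show (1 : P4) * b * 1⁻¹ = b by group]
    refine c.mem_C16.mpr ⟨_, _, ?_, hb, rfl⟩
    rcases ha with rfl | rfl | rfl | rfl <;> decide
  have hS : π ⟨_, hvN⟩ = Equiv.swap 0 1 := Equiv.ext fun i => by
    refine huniq ?_
    show _ = c.g vp 1 * _ * (c.g vp 1)⁻¹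
    rw [c.g_conj, hswap, show (1 : P4) * (five i).2 * 1⁻¹ = (five i).2 by group]
  have hsurj : Function.Surjective π := by
    rw [← MonoidHom.range_eq_top, eq_top_iff]
    have hord : orderOf (pA * pB) = 5 := by
      haveI : Fact (Nat.Prime 5) := ⟨by norm_num⟩
      exact orderOf_eq_prime h5 hne1
    rw [← Equiv.Perm.closure_prime_cycle_swap (σ := pA * pB) (τ := Equiv.swap (0 : Fin 5) 1)
      (by decide) (Equiv.Perm.isCycle_of_prime_order'' (by decide) (by rw [hord, Fintype.card_fin]))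
      hsupp ⟨0, 1, by decide, rfl⟩, Subgroup.closure_le]
    rintro x (rfl | rfl)
    · exact ⟨⟨d, hdN⟩ * ⟨_, hcN⟩, by rw [map_mul, hA, hB]⟩
    · exact ⟨⟨_, hvN⟩, hS⟩
  have hcard : Nat.card π.ker * 120 = Nat.card N := by
    rw [← π.ker.card_mul_index, Subgroup.index_ker, MonoidHom.range_eq_top.mpr hsurj, Subgroup.card_top,
      show Nat.card (Equiv.Perm (Fin 5)) = 120 by rw [Nat.card_perm, Nat.card_fin]; rfl]
  have hker : 16 ∣ Nat.card π.ker := by
    have hle : c.C16.subgroupOf N ≤ π.ker := fun x hx => Equiv.ext fun i => huniq (by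
      obtain ⟨a, b, ha, hb, e⟩ := c.mem_C16.mp (show (x : G) ∈ c.C16 from hx)
      show _ = (x : G) * _ * (x : G)⁻¹
      rw [← e, c.g_conj]
      have hab : ∀ p q p' q' : P4, InW p → InV q → InW p' → InV q' →
          p * p' * p⁻¹ = p' ∧ q * q' * q⁻¹ = q' := by
        have h1 : ∀ p p' : P4, InW p → InW p' → p * p' * p⁻¹ = p' := by decide +kernel
        have h2 : ∀ p p' : P4, InV p → InV p' → p * p' * p⁻¹ = p' := by decide +kernel
        exact fun p q p' q' a b a' b' => ⟨h1 p p' a a', h2 q q' b b'⟩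
      obtain ⟨e1, e2⟩ := hab a b _ _ ha hb (five_mem i).1 (five_mem i).2.1
      rw [e1, e2]
      rfl)
    have := Subgroup.card_dvd_of_le hle
    rwa [Nat.card_congr (Subgroup.subgroupOfEquivOfLe (show c.C16 ≤ N from Subgroup.le_normalizer)).toEquiv,
      c.card_C16] at this
  have hDN : c.D ≤ N := fun x hx => by
    obtain ⟨p, q, hp, hq, rfl⟩ := c.mem_D.mp hx
    refine c.conj_C16 fun a b ha hb => ?_
    rw [c.g_conj]
    have h1 : ∀ p a : P4, InD8 p → InW a → InW (p * a * p⁻¹) := by decide +kernel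
    have h2 : ∀ p a : P4, InD8 p → InV a → InV (p * a * p⁻¹) := by decide +kernel
    exact c.mem_C16.mpr ⟨_, _, h1 p a hp ha, h2 q b hq hb, rfl⟩
  obtain ⟨P, hP⟩ := (c.isPGroup_D.of_equiv (Subgroup.subgroupOfEquivOfLe hDN).symm :
    IsPGroup 2 ↥(c.D.subgroupOf N)).exists_le_sylow
  set B := (P : Subgroup ↥N).map N.subtype with hBdef
  have hB128 : Nat.card B = 128 := by
    have h1 : 2 ^ 7 ∣ Nat.card N := by
      obtain ⟨q, hq⟩ := hker
      exact ⟨q * 15, by rw [← hcard, hq]; ring⟩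
    have h2 := P.pow_dvd_card_of_pow_dvd_card h1
    have h3 : Nat.card B = Nat.card P := Subgroup.card_map_of_injective N.subtype_injective
    refine le_antisymm (c.le128 B (P.2.map _)) ?_
    rw [h3]
    exact Nat.le_of_dvd Nat.card_pos h2
  have hDB : c.D ≤ B := fun x hx => ⟨⟨x, hDN hx⟩, hP hx, rfl⟩
  have hidx : (c.D.subgroupOf B).index = 2 := by
    have h3 := (c.D.subgroupOf B).card_mul_index
    rw [Nat.card_congr (Subgroup.subgroupOfEquivOfLe hDB).toEquiv, c.card_D, hB128] at h3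
    omega
  haveI := Subgroup.normal_of_index_eq_two hidx
  have hBT : B = c.T := Subgroup.eq_of_le_of_card_ge
    (c.normalizer_D hE ▸ (Subgroup.normal_subgroupOf_iff_le_normalizer hDB).mp inferInstance)
    (by rw [hB128, c.card_T])
  have hσN : c.σ ∈ N := by
    obtain ⟨y, -, e⟩ := (hBT.symm ▸ c.σ_mem_T : c.σ ∈ B)
    exact e ▸ y.2
  obtain ⟨a, b, -, hb, e⟩ := c.mem_C16.mp ((Subgroup.mem_normalizer_iff.mp hσN _).mp (hmem 1))
  rw [show (five 1).1 = tp from rfl, show (five 1).2 = 1 from rfl, c.σ_conj] at e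
  obtain ⟨-, rfl⟩ := c.g_inj e
  exact absurd hb (by decide)

end Cfg

end CfsgLib.QTWreath
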