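import Cfsg.Agent.Lib.QTWreath.Norm

/-!
`C(Z(D)) = D`.

Blueprint: `blueprint/S1829.md`.
-/

set_option autoImplicit false
set_option linter.unusedSectionVars false
set_option linter.style.haveILetI false

universe u

namespace CfsgLib.QTWreath

open Cfsg Subgroup

variable {G : Type u} [Group G]

namespace Cfg

variable (c : Cfg G)

theorem zz_ne : c.zz ≠ 1 := c.g_ne_one (Or.inl basics.1)

theorem zz_sq : c.zz * c.zz = 1 := by rw [zz, c.g_mul, basics.2.2.2.1, c.g_one]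

theorem zz_mem_D : c.zz ∈ c.D := c.g_mem_D d8_mem.2.1 d8_mem.2.1

theorem zz_comm {x : G} (hx : x ∈ c.T) : x * c.zz = c.zz * x := by
  obtain ⟨a, b, ha, hb, rfl | rfl⟩ := c.mem_T hx
  · rw [zz, c.g_mul, c.g_mul, ha, hb]
  · have h : c.σ * c.g zp zp = c.g zp zp * c.σ := c.σ_g zp zp
    rw [zz, mul_assoc, h, ← mul_assoc, c.g_mul, ha, hb, ← c.g_mul, mul_assoc]

/-- The 2-core of `C(z)`. -/
def U : Subgroup G :=
  (pCore 2 ↥(centralizer ({c.zz} : Set G))).map (centralizer ({c.zz} : Set G)).subtype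

theorem U_le : c.U ≤ centralizer ({c.zz} : Set G) := Subgroup.map_subtype_le _

theorem U_pgroup [Finite G] : IsPGroup 2 ↥c.U := (isPGroup_pCore 2).map _

theorem U_normalized {x y : G} (hx : x ∈ centralizer ({c.zz} : Set G)) (hy : y ∈ c.U) :
    x * y * x⁻¹ ∈ c.U := by
  obtain ⟨y, hy, rfl⟩ := hy
  exact ⟨⟨x, hx⟩ * y * ⟨x, hx⟩⁻¹, (inferInstance : (pCore 2 _).Normal).conj_mem y hy _, rfl⟩

theorem T_le_centralizer : c.T ≤ centralizer ({c.zz} : Set G) := fun _ hx =>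
  Subgroup.mem_centralizer_singleton_iff.mpr (c.zz_comm hx)

theorem U_le_T [Finite G] : c.U ≤ c.T := by
  haveI : Fact (Nat.Prime 2) := ⟨Nat.prime_two⟩
  rintro _ ⟨y, hy, rfl⟩
  exact CfsgLib.pCore_le_sylow (Sylow.subtype (P := c.S) c.T_le_centralizer) hy

theorem centralizer_eq_normalizer :
    normalizer ((Subgroup.zpowers c.zz : Subgroup G) : Set G) = centralizer ({c.zz} : Set G) := by
  refine le_antisymm (fun x hx => ?_) ?_
  · refine Subgroup.mem_centralizer_singleton_iff.mpr ?_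
    have h := (Subgroup.mem_normalizer_iff.mp hx c.zz).mp (Subgroup.mem_zpowers _)
    obtain ⟨n, hn⟩ := Subgroup.mem_zpowers_iff.mp h
    rcases Int.even_or_odd' n with ⟨m, rfl | rfl⟩
    · rw [zpow_mul, zpow_two, c.zz_sq, one_zpow] at hn
      exact absurd (conj_eq_one_iff.mp hn.symm) c.zz_ne
    · rw [zpow_add, zpow_mul, zpow_two, c.zz_sq, one_zpow, one_mul, zpow_one] at hn
      exact mul_inv_eq_iff_eq_mul.mp hn.symm
  · refine le_trans (le_of_eq ?_) (Subgroup.centralizer_le_normalizer _)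
    rw [Subgroup.zpowers_eq_closure, Subgroup.centralizer_closure]

theorem centralizer_U [Finite G] (hE : IsOfEvenCharacteristic G) {x : G}
    (hx : x ∈ centralizer ({c.zz} : Set G)) (h : ∀ y ∈ c.U, y * x = x * y) : x ∈ c.U := by
  have hloc : IsTwoLocal (centralizer ({c.zz} : Set G)) :=
    ⟨_, c.isPGroup_T.to_le (Subgroup.zpowers_le.mpr (c.D_le_T c.zz_mem_D)),
      fun e => c.zz_ne (Subgroup.zpowers_eq_bot.mp e), c.centralizer_eq_normalizer.symm⟩
  have hc := hE _ hloc ⟨c.S, c.T_le_centralizer⟩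
  refine ⟨⟨x, hx⟩, hc (Subgroup.mem_centralizer_iff.mpr fun y hy => Subtype.ext ?_), rfl⟩
  exact h y ⟨y, hy, rfl⟩

theorem K_le [Finite G] : c.K ≤ centralizer ({c.zz} : Set G) := fun k hk =>
  Subgroup.mem_centralizer_singleton_iff.mpr (c.K_comm_ZD hk (c.mem_ZD.mpr (by simp)))

variable [Finite G]

/-- `O(C(z₁) ∩ C(z₂)) = 1`. -/
theorem oddCore_K (hE : IsOfEvenCharacteristic G) : oddCore ↥c.K = ⊥ := by
  haveI : Fact (Nat.Prime 2) := ⟨Nat.prime_two⟩
  set R := (oddCore ↥c.K).map c.K.subtype with hR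
  have hRK : R ≤ c.K := Subgroup.map_subtype_le _
  have hodd : Odd (Nat.card R) := by
    rw [hR, Subgroup.card_map_of_injective c.K.subtype_injective]
    exact CfsgLib.odd_card_oddCore
  have hcop : (Nat.card R).Coprime 2 := Nat.coprime_two_right.mpr hodd
  have hRn : ∀ p ∈ c.K, ∀ r ∈ R, p * r * p⁻¹ ∈ R := by
    rintro p hp _ ⟨r, hr, rfl⟩
    haveI : (oddCore ↥c.K).Normal := by unfold oddCore; infer_instance
    exact ⟨⟨p, hp⟩ * r * ⟨p, hp⟩⁻¹, Subgroup.Normal.conj_mem inferInstance r hr _, rfl⟩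
  have hz1 : Subgroup.zpowers c.z1 ≤ c.T := Subgroup.zpowers_le.mpr (c.D_le_T c.z1_mem)
  have key := CfsgLib.thompson_PxQ (p := 2) (P := Subgroup.zpowers c.z1) (Q := R) (c.isPGroup_T.to_le hz1) hcop
    (Subgroup.zpowers_le.mpr (Subgroup.mem_centralizer_iff.mpr fun r hr =>
      Subgroup.mem_centralizer_singleton_iff.mp (hRK hr).1))
    c.U c.U_pgroup
    (fun x hx => Subgroup.mem_normalizer_iff.mpr fun y =>
      ⟨c.U_normalized (c.T_le_centralizer (hz1 hx)), fun h => by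
        simpa [mul_assoc] using c.U_normalized (inv_mem (c.T_le_centralizer (hz1 hx))) h⟩)
    (fun x hx => Subgroup.mem_normalizer_iff.mpr fun y =>
      ⟨c.U_normalized (c.K_le (hRK hx)), fun h => by
        simpa [mul_assoc] using c.U_normalized (inv_mem (c.K_le (hRK hx))) h⟩)
    (fun p hp => Subgroup.mem_centralizer_iff.mpr fun r hr => by
      have hpz1 : p * c.z1 = c.z1 * p :=
        (Subgroup.mem_centralizer_iff.mp hp.2 c.z1 (Subgroup.mem_zpowers _)).symm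
      have hpz := Subgroup.mem_centralizer_singleton_iff.mp (c.U_le hp.1)
      have hz2 : c.z2 = c.z1⁻¹ * c.zz := by rw [← c.z1_mul_z2]; group
      have hpK : p ∈ c.K := ⟨Subgroup.mem_centralizer_singleton_iff.mpr hpz1,
        Subgroup.mem_centralizer_singleton_iff.mpr (by
          rw [hz2, ← mul_assoc, (Commute.inv_right hpz1).eq, mul_assoc, hpz, mul_assoc])⟩
      have h1 : r * p * r⁻¹ * p⁻¹ ∈ c.U := mul_mem (c.U_normalized (c.K_le (hRK hr)) hp.1) (inv_mem hp.1)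
      have h2 : r * p * r⁻¹ * p⁻¹ ∈ R := by
        rw [show r * p * r⁻¹ * p⁻¹ = r * (p * r⁻¹ * p⁻¹) by group]
        exact mul_mem hr (hRn p hpK _ (inv_mem hr))
      have h3 : r * p * r⁻¹ * p⁻¹ = 1 := by
        have hd : c.U ⊓ R = ⊥ := by
          obtain ⟨k, hk⟩ := IsPGroup.iff_card.mp c.U_pgroup
          exact (Subgroup.disjoint_of_coprime_natCard (by rw [hk]; exact (hcop.pow_right k).symm)).eq_bot
        exact (Subgroup.mem_bot.mp (hd ▸ (⟨h1, h2⟩ : r * p * r⁻¹ * p⁻¹ ∈ c.U ⊓ R)))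
      exact mul_inv_eq_iff_eq_mul.mp (mul_inv_eq_one.mp h3))
  rw [eq_bot_iff]
  intro r hr
  have hrU : (r : G) ∈ c.U := c.centralizer_U hE (c.K_le r.2) fun y hy =>
    Subgroup.mem_centralizer_iff.mp (key ⟨r, hr, rfl⟩) y hy
  obtain ⟨k, hk⟩ := IsPGroup.iff_card.mp c.U_pgroup
  have hd := (Subgroup.disjoint_of_coprime_natCard (H := c.U) (K := R)
    (by rw [hk]; exact (hcop.pow_right k).symm)).le_bot ⟨hrU, ⟨r, hr, rfl⟩⟩
  exact Subgroup.mem_bot.mpr (Subtype.ext (Subgroup.mem_bot.mp hd))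

/-- The elements acting trivially on `D / Z(D)`. -/
def St : Subgroup G where
  carrier := {x | x ∈ c.K ∧ ∀ y ∈ c.D, x * y * x⁻¹ * y⁻¹ ∈ c.ZD}
  one_mem' := ⟨one_mem _, fun y _ => by simp⟩
  mul_mem' := by
    rintro a b ⟨ha, ha'⟩ ⟨hb, hb'⟩
    refine ⟨mul_mem ha hb, fun y hy => ?_⟩
    have h1 := hb' y hy
    have h2 := c.K_comm_ZD ha h1
    rw [show a * b * y * (a * b)⁻¹ * y⁻¹ = (a * (b * y * b⁻¹ * y⁻¹)) * y * a⁻¹ * y⁻¹ by group, h2,
      show b * y * b⁻¹ * y⁻¹ * a * y * a⁻¹ * y⁻¹ = b * y * b⁻¹ * y⁻¹ * (a * y * a⁻¹ * y⁻¹) by group]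
    exact mul_mem h1 (ha' y hy)
  inv_mem' := by
    rintro a ⟨ha, ha'⟩
    refine ⟨inv_mem ha, fun y hy => ?_⟩
    have h1 := inv_mem (ha' y hy)
    have h2 := c.K_comm_ZD (inv_mem ha) h1
    rw [show a⁻¹ * y * a⁻¹⁻¹ * y⁻¹ = (a⁻¹ * (a * y * a⁻¹ * y⁻¹)⁻¹) * a by group, h2,
      mul_assoc, inv_mul_cancel, mul_one]
    exact h1

theorem D_le_St : c.D ≤ c.St := fun x hx => ⟨c.D_le_K hx, fun y hy => by
  obtain ⟨a, b, ha, hb, rfl⟩ := c.mem_D.mp hx
  obtain ⟨a', b', ha', hb', rfl⟩ := c.mem_D.mp hy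
  rw [c.g_comm]
  exact c.g_mem_ZD (comm_mem a a' ha ha') (comm_mem b b' hb hb')⟩

theorem D_le_centralizer_of {h : G} (h1 : h * c.g tp 1 * h⁻¹ = c.g tp 1) (h2 : h * c.g vp 1 * h⁻¹ = c.g vp 1)
    (h3 : h * c.g 1 tp * h⁻¹ = c.g 1 tp) (h4 : h * c.g 1 vp * h⁻¹ = c.g 1 vp) :
    ∀ y ∈ c.D, h * y * h⁻¹ = y := by
  let Fx : Subgroup G := (centralizer ({h} : Set G))
  have hm : ∀ {y : G}, h * y * h⁻¹ = y → y ∈ Fx := fun e =>
    Subgroup.mem_centralizer_singleton_iff.mpr (mul_inv_eq_iff_eq_mul.mp e).symm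
  have hA : ∀ a : P4, InD8 a → c.g a 1 ∈ Fx := by
    intro a ha
    have ht := hm h1
    have hv := hm h2
    have e : ∀ p q : P4, c.g (p * q) 1 = c.g p 1 * c.g q 1 := fun p q => by rw [c.g_mul, one_mul]
    rcases gen a ha with rfl | rfl | rfl | rfl | rfl | rfl | rfl | rfl
    · rw [c.g_one]; exact one_mem _
    all_goals first | assumption | (simp only [e]; exact mul_mem (by first | assumption | exact mul_mem (by first | assumption | exact mul_mem ‹_› ‹_›) ‹_›) ‹_›)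
  have hB : ∀ b : P4, InD8 b → c.g 1 b ∈ Fx := by
    intro a ha
    have ht := hm h3
    have hv := hm h4
    have e : ∀ p q : P4, c.g 1 (p * q) = c.g 1 p * c.g 1 q := fun p q => by rw [c.g_mul, one_mul]
    rcases gen a ha with rfl | rfl | rfl | rfl | rfl | rfl | rfl | rfl
    · rw [c.g_one]; exact one_mem _
    all_goals first | assumption | (simp only [e]; exact mul_mem (by first | assumption | exact mul_mem (by first | assumption | exact mul_mem ‹_› ‹_›) ‹_›) ‹_›)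
  intro y hy
  obtain ⟨a, b, ha, hb, rfl⟩ := c.mem_D.mp hy
  have h5 := Subgroup.mem_centralizer_singleton_iff.mp (mul_mem (hA a ha) (hB b hb))
  rw [c.g_mul, mul_one, one_mul] at h5
  rw [← h5, mul_inv_cancel_right]

theorem classV : ∀ a : P4, InD8 a → a * a = 1 → a = 1 ∨ a = zp ∨ (∃ d, (d = 1 ∨ d = zp) ∧ a = tp * d) ∨
    (∃ d, (d = 1 ∨ d = zp) ∧ a = vp * d) := by
  intro a ha h2
  rcases invol a ha h2 with (h | h | h | h) | (h | h | h | h)
  · exact Or.inl h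
  · exact Or.inr (Or.inl h)
  · exact Or.inr (Or.inr (Or.inr ⟨1, Or.inl rfl, by rw [h, mul_one]⟩))
  · exact Or.inr (Or.inr (Or.inr ⟨zp, Or.inr rfl, h⟩))
  · exact Or.inl h
  · exact Or.inr (Or.inl h)
  · exact Or.inr (Or.inr (Or.inl ⟨1, Or.inl rfl, by rw [h, mul_one]⟩))
  · exact Or.inr (Or.inr (Or.inl ⟨zp, Or.inr rfl, h⟩))

theorem ZD_sq {z : G} (hz : z ∈ c.ZD) : z * z = 1 := by
  rcases c.mem_ZD.mp hz with rfl | rfl | rfl | rfl
  · simp
  · rw [z1, c.g_mul, basics.2.2.2.1, one_mul, c.g_one]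
  · rw [z2, c.g_mul, basics.2.2.2.1, one_mul, c.g_one]
  · exact c.zz_sq

/-- The fourth power of an element of `N(D) ∩ C(Z(D))` fixes each generator. -/
theorem pow_four_fix {h : G} (hK : h ∈ c.K) {x y : G}
    (hx : h * x * h⁻¹ * x⁻¹ ∈ c.ZD ∨ h * x * h⁻¹ * y⁻¹ ∈ c.ZD)
    (hy : h * y * h⁻¹ * y⁻¹ ∈ c.ZD ∨ h * y * h⁻¹ * x⁻¹ ∈ c.ZD) :
    h ^ 4 * x * (h ^ 4)⁻¹ = x := by
  have two : ∀ {k p q : G}, k ∈ c.K → p ∈ c.ZD → k * q * k⁻¹ = p * q → k * k * q * (k * k)⁻¹ = q := by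
    intro k p q hk hp e
    calc k * k * q * (k * k)⁻¹ = k * (k * q * k⁻¹) * k⁻¹ := by group
      _ = (k * p) * (q * k⁻¹) := by rw [e]; group
      _ = (p * k) * (q * k⁻¹) := by rw [c.K_comm_ZD hk hp]
      _ = p * (k * q * k⁻¹) := by group
      _ = q := by rw [e, ← mul_assoc, c.ZD_sq hp, one_mul]
  have four : ∀ {k q : G}, k * k * q * (k * k)⁻¹ = q → k ^ 4 * q * (k ^ 4)⁻¹ = q := by
    intro k q e
    rw [show k ^ 4 = k * k * (k * k) by rw [pow_succ, pow_succ, pow_two, mul_assoc (k * k)]]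
    calc k * k * (k * k) * q * (k * k * (k * k))⁻¹ = k * k * (k * k * q * (k * k)⁻¹) * (k * k)⁻¹ := by group
      _ = q := by rw [e, e]
  rcases hx with hx | hx
  · exact four (two hK hx (by group))
  · set p := h * x * h⁻¹ * y⁻¹ with hp
    have e1 : h * x * h⁻¹ = p * y := by rw [hp]; group
    have e2 : h * h * x * (h * h)⁻¹ = p * (h * y * h⁻¹) := by
      calc h * h * x * (h * h)⁻¹ = h * (h * x * h⁻¹) * h⁻¹ := by group
        _ = (h * p) * (y * h⁻¹) := by rw [e1]; group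
        _ = (p * h) * (y * h⁻¹) := by rw [c.K_comm_ZD hK hx]
        _ = p * (h * y * h⁻¹) := by group
    rcases hy with hy | hy
    · set q := h * y * h⁻¹ * y⁻¹ with hq
      have e3 : h * y * h⁻¹ = q * y := by rw [hq]; group
      rw [e3] at e2
      have e4 : h * (h * h * x * (h * h)⁻¹) * h⁻¹ = h * x * h⁻¹ := by
        rw [e2, e1]
        calc h * (p * (q * y)) * h⁻¹ = (h * (p * q)) * (y * h⁻¹) := by group
          _ = (p * q * h) * (y * h⁻¹) := by rw [c.K_comm_ZD hK (mul_mem hx hy)]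
          _ = p * q * (h * y * h⁻¹) := by group
          _ = p * (q * q) * y := by rw [e3]; group
          _ = p * y := by rw [c.ZD_sq hy, mul_one]
      exact four (mul_left_cancel (mul_right_cancel e4))
    · set q := h * y * h⁻¹ * x⁻¹ with hq
      have e3 : h * y * h⁻¹ = q * x := by rw [hq]; group
      rw [e3, ← mul_assoc] at e2
      have e6 := two (k := h * h) (mul_mem hK hK) (mul_mem hx hy) e2
      rw [show h ^ 4 = h * h * (h * h) by rw [pow_succ, pow_succ, pow_two, mul_assoc (h * h)]]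
      exact e6

end Cfg

end CfsgLib.QTWreath
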