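import Cfsg.Agent.Lib.QTWreath.Fusion

/-!
The element of odd order fusing the involutions of `W × Z(D₈)`.

Blueprint: `blueprint/S1829.md`.
-/

set_option autoImplicit false
set_option linter.unusedSectionVars false
set_option linter.style.haveILetI false

universe u

namespace CfsgLib.QTWreath

open Cfsg Subgroup

variable {G : Type u} [Group G] [Finite G]

theorem odd_fix {k x w : G} (hw : w * w = 1) (hkw : k * w * k⁻¹ = w) (hk : Odd (orderOf k))
    (h : k * x * k⁻¹ = x ∨ k * x * k⁻¹ = x * w) : k * x * k⁻¹ = x := by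
  rcases h with h | h
  · exact h
  obtain ⟨m, hm⟩ := hk
  have h2 : k ^ 2 * x = x * k ^ 2 := by
    refine mul_inv_eq_iff_eq_mul.mp ?_
    rw [pow_two]
    calc k * k * x * (k * k)⁻¹ = k * (k * x * k⁻¹) * k⁻¹ := by group
      _ = k * (x * w) * k⁻¹ := by rw [h]
      _ = k * x * k⁻¹ * (k * w * k⁻¹) := by group
      _ = x := by rw [h, hkw, mul_assoc, hw, mul_one]
  have e : k = (k ^ 2) ^ (m + 1) := by
    rw [← pow_mul, show 2 * (m + 1) = orderOf k + 1 by omega, pow_succ, pow_orderOf_eq_one, one_mul]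
  refine mul_inv_eq_iff_eq_mul.mpr ?_
  rw [e]
  exact (Commute.pow_left (show Commute (k ^ 2) x from h2) (m + 1)).eq

/-- Representatives of the three cosets of `⟨z₂⟩` in `Z(W × D₈)` outside it. -/
def lab : Fin 3 → P4 := ![zp, tp, tp * zp]

theorem lab_facts : (∀ i, InD8 (lab i) ∧ InW (lab i) ∧ lab i ≠ 1 ∧ lab i * lab i = 1) ∧
    (∀ i j, lab i = lab j → i = j) ∧ (∀ a : P4, InW a → a = 1 ∨ ∃ i, a = lab i) := by decide +kernel

theorem fpf_facts : ∀ p : Equiv.Perm (Fin 3), (∀ i, p i ≠ i) → p ^ 3 = 1 ∧ (∀ i, (p ^ 2) i ≠ i) ∧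
    (∀ i, p⁻¹ i ≠ i) ∧ ((p 0 = 2 ∧ p 2 = 1 ∧ p 1 = 0) ∨ (p⁻¹ 0 = 2 ∧ p⁻¹ 2 = 1 ∧ p⁻¹ 1 = 0)) := by
  decide +kernel

theorem fpf_make : ∀ p : Equiv.Perm (Fin 3), p 1 = 0 → (∀ i, p i ≠ i) ∨ ∀ i, (p * Equiv.swap (1 : Fin 3) 2) i ≠ i := by
  decide +kernel

theorem cyc_lab : ∀ i : Fin 3, InV (cp * lab 0 * cp⁻¹) ∧ cp * lab i * cp⁻¹ ≠ lab i := by decide +kernel

theorem w_comm : ∀ a b : P4, InW a → InW b → a * b = b * a := by decide +kernel

namespace Cfg

variable (c : Cfg G)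

theorem card_R : Nat.card c.R = 32 := by
  rw [R, Subgroup.card_map_of_injective c.inj, Nat.card_congr
    (((centralizer ({zp} : Set P4)) ⊓ centralizer ({tp} : Set P4)).prodEquiv
      (centralizer ({zp} : Set P4))).toEquiv, Nat.card_prod,
    show Nat.card (centralizer ({zp} : Set P4)) = 8 from
      (Nat.card_congr (Equiv.subtypeEquivRight fun a => mem_d8)).trans card_d8,
    show Nat.card ((centralizer ({zp} : Set P4)) ⊓ centralizer ({tp} : Set P4) : Subgroup P4) = 4 from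
      (Nat.card_congr (Equiv.subtypeEquivRight fun a => (Subgroup.mem_inf.trans (and_congr mem_d8
        Subgroup.mem_centralizer_singleton_iff) :
          a ∈ (centralizer ({zp} : Set P4)) ⊓ centralizer ({tp} : Set P4) ↔ InD8 a ∧ a * tp = tp * a))).trans
        (by rw [Nat.card_eq_fintype_card]; decide +kernel)]

theorem g_mem_R {a b : P4} (ha : InW a) (hb : InD8 b) : c.g a b ∈ c.R := by
  have had : InD8 a := by
    rcases ha with rfl | rfl | rfl | rfl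
    exacts [d8_mem.1, d8_mem.2.1, d8_mem.2.2.1, d8_mem.2.2.2.2.1]
  exact c.mem_R.mpr ⟨a, b, had, ha, hb, rfl⟩

theorem of_g_mem_R {a b : P4} (h : c.g a b ∈ c.R) : InW a ∧ InD8 b := by
  obtain ⟨a', b', -, hw, hb, e⟩ := c.mem_R.mp h
  obtain ⟨rfl, rfl⟩ := c.g_inj e
  exact ⟨hw, hb⟩

theorem z2_mem_R : c.z2 ∈ c.R := c.g_mem_R (Or.inl rfl) d8_mem.2.1

theorem z2_sq : c.z2 * c.z2 = 1 := c.ZD_sq (c.mem_ZD.mpr (Or.inr (Or.inr (Or.inl rfl))))

/-- Elements normalising `W × D₈` fix `z₂`. -/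
theorem fix_z2 {n : G} (hn : n ∈ normalizer (c.R : Set G)) : n * c.z2 * n⁻¹ = c.z2 := by
  have h1 := (Subgroup.mem_normalizer_iff.mp hn _).mp (c.g_mem_R (Or.inl rfl) d8_mem.2.2.1)
  have h2 := (Subgroup.mem_normalizer_iff.mp hn _).mp (c.g_mem_R (Or.inl rfl) d8_mem.2.2.2.1)
  have e : c.g 1 tp * c.g 1 vp * (c.g 1 tp)⁻¹ * (c.g 1 vp)⁻¹ = c.z2 := by
    rw [c.g_comm, z2]
    congr 1; decide
  rcases c.R_commutator h1 h2 with h | h <;> rw [conj_comm, e] at h
  · exact absurd (conj_eq_one_iff.mp h) (c.g_ne_one (Or.inr basics.1))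
  · exact h

/-- The centre of `W × D₈`. -/
def IsCen (x : G) : Prop := x ∈ c.R ∧ ∀ y ∈ c.R, x * y = y * x

theorem cen_form {x : G} (h : c.IsCen x) : ∃ a b : P4, InW a ∧ (b = 1 ∨ b = zp) ∧ x = c.g a b := by
  obtain ⟨a, b, -, hw, hb, rfl⟩ := c.mem_R.mp h.1
  refine ⟨a, b, hw, central b hb ?_ ?_, rfl⟩
  · exact (c.g_commute (h.2 _ (c.g_mem_R (Or.inl rfl) d8_mem.2.2.1))).2
  · exact (c.g_commute (h.2 _ (c.g_mem_R (Or.inl rfl) d8_mem.2.2.2.1))).2

theorem cen_g {a b : P4} (ha : InW a) (hb : b = 1 ∨ b = zp) : c.IsCen (c.g a b) := by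
  have hbd : InD8 b := by rcases hb with rfl | rfl; exacts [d8_mem.1, d8_mem.2.1]
  refine ⟨c.g_mem_R ha hbd, fun y hy => ?_⟩
  obtain ⟨a', b', -, hw', hb', rfl⟩ := c.mem_R.mp hy
  rw [c.g_mul, c.g_mul, w_comm a a' ha hw', zd_central_comm hb hb']

theorem cen_conj {n x : G} (hn : n ∈ normalizer (c.R : Set G)) (h : c.IsCen x) : c.IsCen (n * x * n⁻¹) := by
  refine ⟨(Subgroup.mem_normalizer_iff.mp hn x).mp h.1, fun y hy => ?_⟩
  have hy' : n⁻¹ * y * n ∈ c.R := by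
    simpa using (Subgroup.mem_normalizer_iff.mp (inv_mem hn) y).mp hy
  calc n * x * n⁻¹ * y = n * (x * (n⁻¹ * y * n)) * n⁻¹ := by group
    _ = n * ((n⁻¹ * y * n) * x) * n⁻¹ := by rw [h.2 _ hy']
    _ = _ := by group

theorem exists_lab {n : G} (hn : n ∈ normalizer (c.R : Set G)) (i : Fin 3) :
    ∃ j, n * c.g (lab i) 1 * n⁻¹ = c.g (lab j) 1 ∨ n * c.g (lab i) 1 * n⁻¹ = c.g (lab j) 1 * c.z2 := by
  obtain ⟨a, b, ha, hb, e⟩ := c.cen_form (c.cen_conj hn (c.cen_g (lab_facts.1 i).2.1 (Or.inl rfl)))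
  rcases lab_facts.2.2 a ha with rfl | ⟨j, rfl⟩
  · exfalso
    rcases hb with rfl | rfl
    · rw [c.g_one] at e
      exact c.g_ne_one (Or.inl (lab_facts.1 i).2.2.1) (conj_eq_one_iff.mp e)
    · have e2 : n * c.g (lab i) 1 * n⁻¹ = n * c.z2 * n⁻¹ := by rw [c.fix_z2 hn]; exact e
      rw [mul_left_inj, mul_right_inj, z2] at e2
      exact (lab_facts.1 i).2.2.1 (c.g_inj e2).1
  · refine ⟨j, ?_⟩
    rcases hb with rfl | rfl
    · exact Or.inl e
    · exact Or.inr (by rw [e, z2, c.g_mul, mul_one, one_mul])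

theorem lab_unique {x : G} {i j : Fin 3} (hi : x = c.g (lab i) 1 ∨ x = c.g (lab i) 1 * c.z2)
    (hj : x = c.g (lab j) 1 ∨ x = c.g (lab j) 1 * c.z2) : i = j := by
  simp only [z2, c.g_mul, mul_one, one_mul] at hi hj
  rcases hi with rfl | rfl <;> rcases hj with h | h <;> exact lab_facts.2.1 _ _ (c.g_inj h).1

/-- The label of the image. -/
noncomputable def act (n : ↥(normalizer (c.R : Set G))) (i : Fin 3) : Fin 3 :=
  (c.exists_lab n.2 i).choose

theorem act_spec (n : ↥(normalizer (c.R : Set G))) (i : Fin 3) :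
    (n : G) * c.g (lab i) 1 * (n : G)⁻¹ = c.g (lab (c.act n i)) 1 ∨
      (n : G) * c.g (lab i) 1 * (n : G)⁻¹ = c.g (lab (c.act n i)) 1 * c.z2 :=
  (c.exists_lab n.2 i).choose_spec

theorem act_eq {n : ↥(normalizer (c.R : Set G))} {i j : Fin 3}
    (h : (n : G) * c.g (lab i) 1 * (n : G)⁻¹ = c.g (lab j) 1 ∨
      (n : G) * c.g (lab i) 1 * (n : G)⁻¹ = c.g (lab j) 1 * c.z2) : c.act n i = j :=
  c.lab_unique (c.act_spec n i) h

theorem act_mul (m n : ↥(normalizer (c.R : Set G))) (i : Fin 3) : c.act (m * n) i = c.act m (c.act n i) := by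
  refine c.act_eq ?_
  have e : ((m * n : ↥(normalizer (c.R : Set G))) : G) * c.g (lab i) 1 * ((m * n : ↥(normalizer (c.R : Set G))) : G)⁻¹ =
      (m : G) * ((n : G) * c.g (lab i) 1 * (n : G)⁻¹) * (m : G)⁻¹ := by rw [Subgroup.coe_mul]; group
  rw [e]
  rcases c.act_spec n i with h | h <;> rw [h]
  · exact c.act_spec m _
  · rw [show (m : G) * (c.g (lab (c.act n i)) 1 * c.z2) * (m : G)⁻¹ =
      (m : G) * c.g (lab (c.act n i)) 1 * (m : G)⁻¹ * ((m : G) * c.z2 * (m : G)⁻¹) by group, c.fix_z2 m.2]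
    rcases c.act_spec m (c.act n i) with h' | h' <;> rw [h']
    · exact Or.inr rfl
    · exact Or.inl (by rw [mul_assoc, c.z2_sq, mul_one])

theorem act_one (i : Fin 3) : c.act 1 i = i := c.act_eq (Or.inl (by simp))

/-- The action on the labels. -/
noncomputable def pi : ↥(normalizer (c.R : Set G)) →* Equiv.Perm (Fin 3) where
  toFun n :=
    { toFun := c.act n
      invFun := c.act n⁻¹
      left_inv := fun i => by rw [← c.act_mul, inv_mul_cancel, c.act_one]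
      right_inv := fun i => by rw [← c.act_mul, mul_inv_cancel, c.act_one] }
  map_one' := Equiv.ext c.act_one
  map_mul' m n := Equiv.ext (c.act_mul m n)

theorem pi_apply (n : ↥(normalizer (c.R : Set G))) (i : Fin 3) : c.pi n i = c.act n i := rfl

theorem proj_abelian {p q p' q' : P4} {h : G} (hh : h * c.z2 * h⁻¹ = c.z2)
    (h1 : h⁻¹ * c.g p q * h ∈ c.R) (h2 : h⁻¹ * c.g p' q' * h ∈ c.R) : p * p' = p' * p := by
  have e : h⁻¹ * c.g p q * h * (h⁻¹ * c.g p' q' * h) * (h⁻¹ * c.g p q * h)⁻¹ * (h⁻¹ * c.g p' q' * h)⁻¹ =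
      h⁻¹ * c.g (p * p' * p⁻¹ * p'⁻¹) (q * q' * q⁻¹ * q'⁻¹) * h := by rw [← c.g_comm]; group
  have k : p * p' * p⁻¹ * p'⁻¹ = 1 := by
    rcases c.R_commutator h1 h2 with k | k <;> rw [e] at k
    · have := congrArg (fun y => h * y * h⁻¹) k
      simp only [mul_one, mul_inv_cancel] at this
      rw [show h * (h⁻¹ * c.g (p * p' * p⁻¹ * p'⁻¹) (q * q' * q⁻¹ * q'⁻¹) * h) * h⁻¹ =
        c.g (p * p' * p⁻¹ * p'⁻¹) (q * q' * q⁻¹ * q'⁻¹) by group, ← c.g_one] at this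
      exact (c.g_inj this).1
    · have := congrArg (fun y => h * y * h⁻¹) k
      simp only [hh] at this
      rw [show h * (h⁻¹ * c.g (p * p' * p⁻¹ * p'⁻¹) (q * q' * q⁻¹ * q'⁻¹) * h) * h⁻¹ =
        c.g (p * p' * p⁻¹ * p'⁻¹) (q * q' * q⁻¹ * q'⁻¹) by group, z2] at this
      exact (c.g_inj this).1
  exact mul_inv_eq_iff_eq_mul.mp (mul_inv_eq_one.mp k)

/-- An element normalising `W × D₈` that moves all three labels. -/
theorem exists_fpf [IsSimpleGroup G] (h4 : 4 ≤ Nat.card G) :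
    ∃ n : ↥(normalizer (c.R : Set G)), ∀ i, c.pi n i ≠ i := by
  haveI : Fact (Nat.Prime 2) := ⟨Nat.prime_two⟩
  obtain ⟨B, hB, hRB, hBC, hBN⟩ := c.exists_bigger h4
  have hBz : B ≤ centralizer ({c.z2} : Set G) := fun y hy =>
    Subgroup.mem_centralizer_singleton_iff.mpr (mul_inv_eq_iff_eq_mul.mp (c.fix_z2 (hBN hy)))
  obtain ⟨h, hhC, hh⟩ := c.toD2 hB hBz
  have hhz : h * c.z2 * h⁻¹ = c.z2 :=
    mul_inv_eq_iff_eq_mul.mpr (Subgroup.mem_centralizer_singleton_iff.mp hhC)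
  have hle : B.map (MulAut.conj h).toMonoidHom ≤ c.D := by rintro _ ⟨y, hy, rfl⟩; exact hh y hy
  have hBcard : 64 ≤ Nat.card B := by
    obtain ⟨k, hk⟩ := IsPGroup.iff_card.mp hB
    have h1 : Nat.card c.R < Nat.card B := lt_of_le_of_ne (Subgroup.card_le_of_le hRB.le)
      fun e => hRB.ne (Subgroup.eq_of_le_of_card_ge hRB.le e.ge)
    rw [c.card_R, hk] at h1
    have a1 : 5 < k := (Nat.pow_lt_pow_iff_right (le_refl 2)).mp (show 2 ^ 5 < 2 ^ k by simpa using h1)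
    rw [hk]
    calc 64 = 2 ^ 6 := by norm_num
      _ ≤ 2 ^ k := Nat.pow_le_pow_right two_pos a1
  have heq : B.map (MulAut.conj h).toMonoidHom = c.D := Subgroup.eq_of_le_of_card_ge hle (by
    rw [c.card_D, Subgroup.card_map_of_injective (MulAut.conj h).injective]; exact hBcard)
  have back : ∀ x ∈ c.D, h⁻¹ * x * h ∈ B := fun x hx => by
    rw [← heq] at hx
    obtain ⟨y, hy, rfl⟩ := hx
    simpa [mul_assoc] using hy
  -- the image of `t`
  have htR : c.g tp 1 ∈ c.R := c.g_mem_R (Or.inr (Or.inr (Or.inl rfl))) d8_mem.1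
  obtain ⟨a0, b0, ha0, hb0, e0⟩ := c.mem_D.mp (hh _ (hRB.le htR))
  have hcom : ∀ x ∈ c.D, x * c.g a0 b0 = c.g a0 b0 * x := fun x hx => by
    have h1 := Subgroup.mem_centralizer_singleton_iff.mp (hBC (back x hx))
    rw [e0]
    calc x * (h * c.g tp 1 * h⁻¹) = h * (h⁻¹ * x * h * c.g tp 1) * h⁻¹ := by group
      _ = h * (c.g tp 1 * (h⁻¹ * x * h)) * h⁻¹ := by rw [h1]
      _ = _ := by group
  have ha0c : a0 = 1 ∨ a0 = zp := by
    refine central a0 ha0 ?_ ?_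
    · exact (c.g_commute (hcom _ (c.g_mem_D d8_mem.2.2.1 d8_mem.1))).1.symm
    · exact (c.g_commute (hcom _ (c.g_mem_D d8_mem.2.2.2.1 d8_mem.1))).1.symm
  have hb0c : b0 = 1 ∨ b0 = zp := by
    refine central b0 hb0 ?_ ?_
    · exact (c.g_commute (hcom _ (c.g_mem_D d8_mem.1 d8_mem.2.2.1))).2.symm
    · exact (c.g_commute (hcom _ (c.g_mem_D d8_mem.1 d8_mem.2.2.2.1))).2.symm
  have ha0z : a0 = zp := by
    rcases ha0c with rfl | e
    · exfalso
      rcases hb0c with rfl | rfl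
      · rw [c.g_one] at e0
        exact c.g_ne_one (Or.inl basics.2.1) (conj_eq_one_iff.mp e0.symm)
      · have e1 : h * c.g tp 1 * h⁻¹ = h * c.z2 * h⁻¹ := by rw [hhz, ← e0]; rfl
        rw [mul_left_inj, mul_right_inj, z2] at e1
        exact basics.2.1 (c.g_inj e1).1
    · exact e
  subst ha0z
  -- the shape of the image of `R`
  set P := c.R.map (MulAut.conj h).toMonoidHom with hP
  have hPD : P ≤ c.D := (Subgroup.map_mono hRB.le).trans hle
  have hPback : ∀ x ∈ P, h⁻¹ * x * h ∈ c.R := by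
    rintro _ ⟨y, hy, rfl⟩
    simpa [mul_assoc] using hy
  have hPcard : Nat.card P = 32 := by
    rw [hP, Subgroup.card_map_of_injective (MulAut.conj h).injective, c.card_R]
  have hz2P : c.z2 ∈ P := ⟨c.z2, c.z2_mem_R, hhz⟩
  have hz1P : c.z1 ∈ P := by
    have h1 : c.g zp b0 ∈ P := e0 ▸ ⟨_, htR, rfl⟩
    rcases hb0c with rfl | rfl
    · exact h1
    · have := mul_mem h1 hz2P
      rwa [z2, c.g_mul, mul_one, basics.2.2.2.1] at this
  obtain ⟨a, ha, hanc, b, hab⟩ : ∃ a : P4, InD8 a ∧ (a ≠ 1 ∧ a ≠ zp) ∧ ∃ b, c.g a b ∈ P := by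
    by_contra hcon
    push Not at hcon
    have hsub : P ≤ ((Subgroup.zpowers zp).prod (centralizer ({zp} : Set P4))).map c.f := fun x hx => by
      obtain ⟨p, q, hp, hq, rfl⟩ := c.mem_D.mp (hPD hx)
      refine ⟨(p, q), ⟨?_, mem_d8.mpr hq⟩, rfl⟩
      by_contra hpz
      have h1 : p ≠ 1 := fun e => hpz (e ▸ one_mem _)
      exact hcon p hp ⟨h1, fun e => hpz (e ▸ Subgroup.mem_zpowers _)⟩ q hx
    have := Subgroup.card_le_of_le hsub
    rw [hPcard, Subgroup.card_map_of_injective c.inj, Nat.card_congr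
      ((Subgroup.zpowers zp).prodEquiv (centralizer ({zp} : Set P4))).toEquiv, Nat.card_prod, Nat.card_zpowers,
      show Nat.card (centralizer ({zp} : Set P4)) = 8 from
        (Nat.card_congr (Equiv.subtypeEquivRight fun a => mem_d8)).trans card_d8] at this
    have h2 : orderOf zp ≤ 2 := Nat.le_of_dvd two_pos (orderOf_dvd_of_pow_eq_one (by rw [pow_two]; exact basics.2.2.2.1))
    omega
  have hproj : ∀ p q : P4, c.g p q ∈ P → p = 1 ∨ p = zp ∨ p = a ∨ p = a * zp := by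
    intro p q hpq
    have hc := c.proj_abelian hhz (hPback _ hab) (hPback _ hpq)
    rcases abelian_pair a p ha (c.of_g_mem_D (hPD hpq)).1 hc with h1 | h1 | h1 | h1 | h1 | h1
    · exact absurd h1 hanc.1
    · exact absurd h1 hanc.2
    · exact Or.inl h1
    · exact Or.inr (Or.inl h1)
    · exact Or.inr (Or.inr (Or.inl h1))
    · exact Or.inr (Or.inr (Or.inr h1))
  have hX : ∀ p q : P4, (p = 1 ∨ p = zp ∨ p = a ∨ p = a * zp) → InD8 q → c.g p q ∈ P := by
    classical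
    let X : Finset P4 := {1, zp, a, a * zp}
    let Q : Finset P4 := Finset.univ.filter InD8
    have hXc : X.card ≤ 4 := Finset.card_le_four
    have hQc : Q.card = 8 := by decide +kernel
    have himg : (P : Set G) ⊆ ↑((X ×ˢ Q).image fun pq => c.g pq.1 pq.2) := fun x hx => by
      obtain ⟨p, q, -, hq, rfl⟩ := c.mem_D.mp (hPD hx)
      rw [Finset.coe_image]
      exact ⟨(p, q), Finset.mem_product.mpr ⟨by simpa [X] using hproj p q hx, Finset.mem_filter.mpr ⟨Finset.mem_univ _, hq⟩⟩, rfl⟩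
    have heq' : (P : Set G) = ↑((X ×ˢ Q).image fun pq => c.g pq.1 pq.2) := by
      refine Set.eq_of_subset_of_ncard_le himg ?_ (Finset.finite_toSet _)
      rw [Set.ncard_coe_finset, ← Nat.card_coe_set_eq]
      refine le_trans Finset.card_image_le ?_
      rw [Finset.card_product, hQc]
      exact le_trans (Nat.mul_le_mul_right 8 hXc) hPcard.ge
    intro p q hp hq
    rw [← SetLike.mem_coe, heq', Finset.coe_image]
    exact ⟨(p, q), Finset.mem_product.mpr ⟨by simpa [X] using hp, Finset.mem_filter.mpr ⟨Finset.mem_univ _, hq⟩⟩, rfl⟩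
  have hord : InV a ∨ InW a := by
    by_contra hcon
    rw [not_or] at hcon
    have haP : c.g a 1 ∈ P := hX a 1 (Or.inr (Or.inr (Or.inl rfl))) d8_mem.1
    have hcen : c.IsCen (h⁻¹ * c.g a 1 * h) := by
      refine ⟨hPback _ haP, fun y hy => ?_⟩
      obtain ⟨p, q, hp, hq, e⟩ := c.mem_D.mp (hPD ⟨y, hy, rfl⟩ : (MulAut.conj h).toMonoidHom y ∈ c.D)
      change c.g p q = h * y * h⁻¹ at e
      have hc := c.proj_abelian hhz (hPback _ haP) (hPback _ (e ▸ ⟨y, hy, rfl⟩ : c.g p q ∈ P))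
      have hcc : c.g a 1 * c.g p q = c.g p q * c.g a 1 := by rw [c.g_mul, c.g_mul, hc, one_mul, mul_one]
      rw [e] at hcc
      calc h⁻¹ * c.g a 1 * h * y = h⁻¹ * (c.g a 1 * (h * y * h⁻¹)) * h := by group
        _ = h⁻¹ * (h * y * h⁻¹ * c.g a 1) * h := by rw [hcc]
        _ = _ := by group
    obtain ⟨a', b', ha', hb', e⟩ := c.cen_form hcen
    have h2 : c.g a 1 * c.g a 1 = 1 := by
      have h3 : c.g a' b' * c.g a' b' = 1 := by
        rw [c.g_mul]
        rcases lab_facts.2.2 a' ha' with rfl | ⟨i, rfl⟩ <;> rcases hb' with rfl | rfl <;>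
          simp [basics.2.2.2.1, (lab_facts.1 _).2.2.2, c.g_one]
      rw [← e] at h3
      have := congrArg (fun y => h * y * h⁻¹) h3
      simpa [mul_assoc] using this
    rw [c.g_mul, order_four a ha hcon.1 hcon.2] at h2
    exact c.g_ne_one (Or.inl basics.1) h2
  rcases hord with hV | hW
  · -- the other four group: use the three-cycle
    have hXV : ∀ p, InV p ↔ (p = 1 ∨ p = zp ∨ p = a ∨ p = a * zp) := by
      have : ∀ a : P4, InV a → a ≠ 1 → a ≠ zp → ∀ p, InV p ↔ (p = 1 ∨ p = zp ∨ p = a ∨ p = a * zp) := by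
        decide +kernel
      exact this a hV hanc.1 hanc.2
    have hc1 : ∀ x ∈ P, c.g cp 1 * x * (c.g cp 1)⁻¹ ∈ P := by
      intro x hx
      obtain ⟨p, q, -, hq, rfl⟩ := c.mem_D.mp (hPD hx)
      rw [c.g_conj, show (1 : P4) * q * 1⁻¹ = q by group]
      exact hX _ _ ((hXV _).mp (cp_facts.2.2.1 p ((hXV p).mpr (hproj p q hx)))) hq
    have hn : h⁻¹ * c.g cp 1 * h ∈ normalizer (c.R : Set G) := by
      refine Subgroup.mem_normalizer_fintype fun y hy => ?_
      have := hPback _ (hc1 _ ⟨y, hy, rfl⟩)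
      simpa [mul_assoc] using this
    refine ⟨⟨_, hn⟩, fun i hi => ?_⟩
    have h1 := c.act_spec ⟨_, hn⟩ i
    rw [← c.pi_apply, hi] at h1
    have key : ∀ j : Fin 3, ∃ p q : P4, (InV p ∧ p ≠ 1) ∧ (q = 1 ∨ q = zp) ∧
        h * c.g (lab j) 1 * h⁻¹ = c.g p q := by
      intro j
      have hcen := c.cen_g (lab_facts.1 j).2.1 (Or.inl rfl : (1 : P4) = 1 ∨ (1 : P4) = zp)
      obtain ⟨p, q, -, hq, e⟩ := c.mem_D.mp (hPD ⟨_, hcen.1, rfl⟩ : h * c.g (lab j) 1 * h⁻¹ ∈ c.D)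
      have hq' : q = 1 ∨ q = zp := by
        refine central q hq ?_ ?_
        · have h5 := hcen.2 _ (hPback _ (hX 1 tp (Or.inl rfl) d8_mem.2.2.1))
          refine (c.g_commute (a := p) (a' := 1) (b := q) (b' := tp) ?_).2
          rw [e]
          calc h * c.g (lab j) 1 * h⁻¹ * c.g 1 tp = h * (c.g (lab j) 1 * (h⁻¹ * c.g 1 tp * h)) * h⁻¹ := by group
            _ = h * (h⁻¹ * c.g 1 tp * h * c.g (lab j) 1) * h⁻¹ := by rw [h5]
            _ = _ := by group
        · have h5 := hcen.2 _ (hPback _ (hX 1 vp (Or.inl rfl) d8_mem.2.2.2.1))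
          refine (c.g_commute (a := p) (a' := 1) (b := q) (b' := vp) ?_).2
          rw [e]
          calc h * c.g (lab j) 1 * h⁻¹ * c.g 1 vp = h * (c.g (lab j) 1 * (h⁻¹ * c.g 1 vp * h)) * h⁻¹ := by group
            _ = h * (h⁻¹ * c.g 1 vp * h * c.g (lab j) 1) * h⁻¹ := by rw [h5]
            _ = _ := by group
      refine ⟨p, q, ⟨(hXV p).mpr (hproj p q (e ▸ ⟨_, hcen.1, rfl⟩)), fun hp1 => ?_⟩, hq', e.symm⟩
      subst hp1
      rcases hq' with rfl | rfl
      · exact c.g_ne_one (Or.inl (lab_facts.1 j).2.2.1) (conj_eq_one_iff.mp (e.symm.trans c.g_one))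
      · have e1 : h * c.g (lab j) 1 * h⁻¹ = h * c.z2 * h⁻¹ := by rw [hhz]; exact e.symm
        rw [mul_left_inj, mul_right_inj, z2] at e1
        exact (lab_facts.1 j).2.2.1 (c.g_inj e1).1
    obtain ⟨p, q, ⟨hp, hp1⟩, hq, e⟩ := key i
    have e2 : h * (h⁻¹ * c.g cp 1 * h * c.g (lab i) 1 * (h⁻¹ * c.g cp 1 * h)⁻¹) * h⁻¹ =
        c.g (cp * p * cp⁻¹) q := by
      rw [show h * (h⁻¹ * c.g cp 1 * h * c.g (lab i) 1 * (h⁻¹ * c.g cp 1 * h)⁻¹) * h⁻¹ =
        c.g cp 1 * (h * c.g (lab i) 1 * h⁻¹) * (c.g cp 1)⁻¹ by group, e, c.g_conj,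
        show (1 : P4) * q * 1⁻¹ = q by group]
    have hmove : ∀ p : P4, InV p → p ≠ 1 → cp * p * cp⁻¹ ≠ p := by decide +kernel
    rcases h1 with h1 | h1 <;> simp only at h1 <;> rw [h1] at e2
    · rw [e] at e2
      exact hmove p hp hp1 (c.g_inj e2).1.symm
    · rw [show h * (c.g (lab i) 1 * c.z2) * h⁻¹ = h * c.g (lab i) 1 * h⁻¹ * (h * c.z2 * h⁻¹) by group, e, hhz,
        z2, c.g_mul, mul_one] at e2
      exact hmove p hp hp1 (c.g_inj e2).1.symm
  · -- the same four group: `h` normalises `R`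
    have hXW : ∀ p, InW p ↔ (p = 1 ∨ p = zp ∨ p = a ∨ p = a * zp) := by
      have : ∀ a : P4, InW a → a ≠ 1 → a ≠ zp → ∀ p, InW p ↔ (p = 1 ∨ p = zp ∨ p = a ∨ p = a * zp) := by
        decide +kernel
      exact this a hW hanc.1 hanc.2
    have hhN : h ∈ normalizer (c.R : Set G) := Subgroup.mem_normalizer_fintype fun y hy => by
      have hyP : h * y * h⁻¹ ∈ P := ⟨y, hy, rfl⟩
      obtain ⟨p, q, -, hq, e⟩ := c.mem_D.mp (hPD hyP)
      rw [← e] at hyP ⊢
      exact c.g_mem_R ((hXW p).mpr (hproj p q hyP)) hq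
    have hv : c.g vp 1 ∈ normalizer (c.R : Set G) := Subgroup.mem_normalizer_fintype fun y hy => by
      obtain ⟨p, q, -, hw, hq, rfl⟩ := c.mem_R.mp hy
      rw [c.g_conj, show (1 : P4) * q * 1⁻¹ = q by group]
      refine c.g_mem_R ?_ hq
      rcases hw with rfl | rfl | rfl | rfl <;> decide
    have h10 : c.pi ⟨h, hhN⟩ 1 = 0 := by
      refine c.act_eq ?_
      show h * c.g tp 1 * h⁻¹ = c.g zp 1 ∨ h * c.g tp 1 * h⁻¹ = c.g zp 1 * c.z2
      rcases hb0c with rfl | rfl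
      · exact Or.inl e0.symm
      · exact Or.inr (by rw [← e0, z2, c.g_mul, mul_one, one_mul])
    have hsw : c.pi ⟨_, hv⟩ = Equiv.swap 1 2 := by
      refine Equiv.ext fun i => c.act_eq (Or.inl ?_)
      show c.g vp 1 * c.g (lab i) 1 * (c.g vp 1)⁻¹ = _
      rw [c.g_conj, show (1 : P4) * 1 * 1⁻¹ = 1 by group]
      congr 1
      revert i
      decide +kernel
    rcases fpf_make _ h10 with h' | h'
    · exact ⟨_, h'⟩
    · exact ⟨⟨h, hhN⟩ * ⟨_, hv⟩, fun i => by rw [map_mul, hsw]; exact h' i⟩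

/-- An element of odd order normalising `W × D₈` and inducing a three-cycle on the labels. -/
theorem exists_odd_cycle [IsSimpleGroup G] (h4 : 4 ≤ Nat.card G) :
    ∃ d : ↥(normalizer (c.R : Set G)), Odd (orderOf (d : G)) ∧ c.pi d 0 = 2 ∧ c.pi d 2 = 1 ∧ c.pi d 1 = 0 := by
  obtain ⟨n, hn⟩ := c.exists_fpf h4
  obtain ⟨k, m, hm, he⟩ := Nat.exists_eq_two_pow_mul_odd (orderOf_pos n).ne'
  set d := n ^ 2 ^ k with hd
  have hdo : orderOf d = m := by
    rw [hd, orderOf_pow' n (pow_ne_zero _ two_ne_zero), he, Nat.gcd_eq_right (Dvd.intro _ rfl),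
      Nat.mul_div_cancel_left _ (pow_pos two_pos _)]
  have h3 := (fpf_facts _ hn).1
  have hfpf : ∀ i, c.pi d i ≠ i := by
    rw [hd, map_pow, ← pow_mod_natCard_aux h3]
    have hmod : ∀ j : ℕ, 2 ^ j % 3 = 1 ∨ 2 ^ j % 3 = 2 := fun j => by
      induction j with
      | zero => decide
      | succ j ih =>
        rw [pow_succ, Nat.mul_mod]
        rcases ih with e | e <;> rw [e] <;> decide
    rcases hmod k with e | e <;> rw [e]
    · rw [pow_one]; exact hn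
    · exact (fpf_facts _ hn).2.1
  rcases (fpf_facts _ hfpf).2.2.2 with h | h
  · exact ⟨d, by rw [Subgroup.orderOf_coe, hdo]; exact hm, h⟩
  · exact ⟨d⁻¹, by rw [Subgroup.orderOf_coe, orderOf_inv, hdo]; exact hm, by rwa [map_inv]⟩
where
  pow_mod_natCard_aux {p : Equiv.Perm (Fin 3)} (h : p ^ 3 = 1) {n : ℕ} : p ^ (n % 3) = p ^ n := by
    conv_rhs => rw [← Nat.mod_add_div n 3, pow_add, pow_mul, h, one_pow, mul_one]

end Cfg

end CfsgLib.QTWreath
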