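import Cfsg.Agent.Lib.QTWreath.Fusion

/-!
With all involutions of `D` in two classes, `σ` is left unfused: the transfer contradiction.

Blueprint: `blueprint/S1829.md`.
-/

set_option autoImplicit false
set_option linter.unusedSectionVars false
set_option linter.style.haveILetI false

universe u

namespace CfsgLib.QTWreath

open Cfsg Subgroup

variable {G : Type u} [Group G] [Finite G]

theorem d8_tv : InD8 (tp * vp) ∧ zp ≠ zp * zp ∧ tp * vp * tp * vp = zp ∧ tp⁻¹ = tp := by decide +kernel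

theorem d8_eq_zp : ∀ a : P4, InD8 a → (a * zp = 1 → a = zp) := by decide +kernel

namespace Cfg

variable (c : Cfg G)

theorem invol_class (hu : c.IsU (c.g tp 1)) (hz : c.IsZ (c.g tp zp)) (htt : c.IsZ (c.g tp tp)) {a b : P4}
    (ha : InD8 a) (hb : InD8 b) (h2 : c.g a b * c.g a b = 1) (h1 : c.g a b ≠ 1) :
    (c.IsU (c.g a b) ∧ (a = 1 ∨ b = 1)) ∨ (c.IsZ (c.g a b) ∧ a ≠ 1 ∧ b ≠ 1) := by
  rw [c.g_mul] at h2
  obtain ⟨ha2, hb2⟩ := c.g_inj (h2.trans c.g_one.symm)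
  obtain ⟨m, hm⟩ := class_rep a ha ha2
  obtain ⟨k, hk⟩ := class_rep b hb hb2
  have one : ∀ x y : P4, x * y * x⁻¹ = 1 → y = 1 := fun x y e => conj_eq_one_iff.mp e
  have nz : ∀ x y w : P4, x * y * x⁻¹ = w → w ≠ 1 → y ≠ 1 := fun x y w e hw e' => by
    rw [e', mul_one, mul_inv_cancel] at e; exact hw e.symm
  have hc := (c.g_isConj a b m k).symm
  rcases hm with e | e | e <;> rcases hk with e' | e' | e' <;> rw [e, e'] at hc
  · rw [c.g_one] at hc; exact absurd (isConj_one_right.mp hc) h1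
  · exact Or.inl ⟨((c.g_U (a := zp) (Or.inr (Or.inl rfl)) basics.1).2).trans hc, Or.inl (one _ _ e)⟩
  · exact Or.inl ⟨(hu.trans (c.g_isConj_swap tp 1)).trans hc, Or.inl (one _ _ e)⟩
  · exact Or.inl ⟨IsConj.trans (show IsConj c.z1 (c.g zp 1) from IsConj.refl _) hc, Or.inr (one _ _ e')⟩
  · exact Or.inr ⟨IsConj.trans (show IsConj c.zz (c.g zp zp) from IsConj.refl _) hc, nz _ _ _ e basics.1,
      nz _ _ _ e' basics.1⟩
  · exact Or.inr ⟨(hz.trans (c.g_isConj_swap tp zp)).trans hc, nz _ _ _ e basics.1, nz _ _ _ e' basics.2.1⟩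
  · exact Or.inl ⟨hu.trans hc, Or.inr (one _ _ e')⟩
  · exact Or.inr ⟨hz.trans hc, nz _ _ _ e basics.2.1, nz _ _ _ e' basics.1⟩
  · exact Or.inr ⟨htt.trans hc, nz _ _ _ e basics.2.1, nz _ _ _ e' basics.2.1⟩

theorem z1_mem_U (hE : IsOfEvenCharacteristic G) : c.z1 ∈ c.U := by
  by_cases hUD : c.U ≤ c.D
  · exact c.centralizer_U hE (c.T_le_centralizer (c.D_le_T c.z1_mem)) fun y hy => c.z1_comm (hUD hy)
  obtain ⟨y, hyU, hyD⟩ := SetLike.not_le_iff_exists.mp hUD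
  obtain ⟨a, b, ha, hb, e | e⟩ := c.mem_T (c.U_le_T hyU)
  · exact absurd (e ▸ c.g_mem_D ha hb) hyD
  subst e
  have hq : ∀ x : P4, InD8 x → c.g x (b * x⁻¹ * b⁻¹) ∈ c.U := by
    intro x hx
    have h := mul_mem (c.U_normalized (c.T_le_centralizer (c.D_le_T (c.g_mem_D hx d8_mem.1))) hyU) (inv_mem hyU)
    rwa [show c.g x 1 * (c.g a b * c.σ) * (c.g x 1)⁻¹ * (c.g a b * c.σ)⁻¹ =
      c.g x 1 * c.g a b * (c.σ * (c.g x 1)⁻¹ * c.σ⁻¹) * (c.g a b)⁻¹ by group, c.g_inv, c.σ_conj, c.g_inv, c.g_mul,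
      c.g_mul, c.g_mul, inv_one, one_mul, mul_one, mul_inv_cancel_right] at h
  have h2 : c.z2 ∈ c.U := by
    have h := mul_mem (mul_mem (hq tp d8_mem.2.2.1) (hq vp d8_mem.2.2.2.1)) (inv_mem (hq (tp * vp) d8_tv.1))
    rw [c.g_inv, c.g_mul, c.g_mul, mul_inv_cancel] at h
    rwa [show b * tp⁻¹ * b⁻¹ * (b * vp⁻¹ * b⁻¹) * (b * (tp * vp)⁻¹ * b⁻¹)⁻¹ =
      b * (tp⁻¹ * vp⁻¹ * tp * vp) * b⁻¹ by group,
      show tp⁻¹ * vp⁻¹ * tp * vp = zp by
        rw [d8_tv.2.2.2, inv_eq_of_mul_eq_one_right basics.2.2.2.2.2.1]; exact d8_tv.2.2.1,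
      hb, mul_inv_cancel_right] at h
  have h1 := c.U_normalized (c.T_le_centralizer c.σ_mem_T) h2
  rwa [z2, c.σ_conj] at h1

/-- `C(z) = T`. -/
theorem centralizer_zz (hE : IsOfEvenCharacteristic G) (hu : c.IsU (c.g tp 1)) (hz : c.IsZ (c.g tp zp))
    (htt : c.IsZ (c.g tp tp)) : centralizer ({c.zz} : Set G) = c.T := by
  set C := centralizer ({c.zz} : Set G) with hC
  let InO : G → Prop := fun k => ∃ x ∈ C, x * c.z1 * x⁻¹ = k
  have hT : ∀ k, InO k → k ∈ c.T := by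
    rintro _ ⟨x, hx, rfl⟩
    exact c.U_le_T (c.U_normalized hx (c.z1_mem_U hE))
  have hU : ∀ k, InO k → c.IsU k := by
    rintro _ ⟨x, -, rfl⟩
    exact c.U_conj (IsConj.refl _ : c.IsU c.z1) x
  have hsq : ∀ k, InO k → k * k = 1 ∧ k ≠ 1 := by
    rintro _ ⟨x, -, rfl⟩
    refine ⟨?_, fun e => c.g_ne_one (a := zp) (b := 1) (Or.inl basics.1) (conj_eq_one_iff.mp e)⟩
    rw [show x * c.z1 * x⁻¹ * (x * c.z1 * x⁻¹) = x * (c.z1 * c.z1) * x⁻¹ by group, z1, c.g_mul,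
      basics.2.2.2.1, one_mul, c.g_one, mul_one, mul_inv_cancel]
  have hconj : ∀ k, InO k → ∀ y ∈ C, InO (y * k * y⁻¹) := by
    rintro _ ⟨x, hx, rfl⟩ y hy
    exact ⟨y * x, mul_mem hy hx, by group⟩
  have hzz : ∀ k, InO k → InO (k * c.zz) := by
    rintro _ ⟨x, hx, rfl⟩
    refine ⟨x * c.σ, mul_mem hx (c.T_le_centralizer c.σ_mem_T), ?_⟩
    have hxz := Subgroup.mem_centralizer_singleton_iff.mp hx
    have e : c.z1 * c.zz = c.z2 := by rw [z1, zz, z2, c.g_mul, basics.2.2.2.1, one_mul]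
    calc x * c.σ * c.z1 * (x * c.σ)⁻¹ = x * (c.σ * c.z1 * c.σ⁻¹) * x⁻¹ := by group
      _ = x * c.z1 * (x⁻¹ * (x * c.zz)) * x⁻¹ := by rw [c.σ_z1, ← e, inv_mul_cancel_left]; group
      _ = x * c.z1 * (x⁻¹ * (c.zz * x)) * x⁻¹ := by rw [hxz]
      _ = _ := by group
  have inD : ∀ k, InO k → k ∈ c.D → k = c.z1 ∨ k = c.z2 := by
    intro k hk hD
    obtain ⟨a, b, ha, hb, rfl⟩ := c.mem_D.mp hD
    have fac : ∀ a b : P4, InD8 a → InD8 b → InO (c.g a b) → a = 1 ∨ b = 1 := by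
      intro a b ha hb hk
      rcases c.invol_class hu hz htt ha hb (hsq _ hk).1 (hsq _ hk).2 with ⟨-, h⟩ | ⟨hZ, -⟩
      · exact h
      · exact (c.U_ne_Z (hU _ hk) hZ).elim
    have hk' := hzz _ hk
    rw [zz, c.g_mul] at hk'
    have hdz : ∀ a : P4, InD8 a → InD8 (a * zp) := fun a ha =>
      mem_d8.mp (mul_mem (mem_d8.mpr ha) (mem_d8.mpr d8_mem.2.1))
    rcases fac a b ha hb hk with rfl | rfl
    · rcases fac _ _ (hdz 1 ha) (hdz b hb) hk' with e | e
      · rw [one_mul] at e; exact absurd e basics.1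
      · exact Or.inr (by rw [d8_eq_zp b hb e]; rfl)
    · rcases fac _ _ (hdz a ha) (hdz 1 hb) hk' with e | e
      · exact Or.inl (by rw [d8_eq_zp a ha e]; rfl)
      · rw [one_mul] at e; exact absurd e basics.1
  have claim : ∀ y k, InO y → InO k → y * k = k * y → k = y ∨ k = y * c.zz := by
    rintro _ k ⟨x, hx, rfl⟩ hk hc
    have hk' : InO (x⁻¹ * k * x) := by simpa using hconj k hk x⁻¹ (inv_mem hx)
    have hcm : c.z1 * (x⁻¹ * k * x) = x⁻¹ * k * x * c.z1 := by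
      calc c.z1 * (x⁻¹ * k * x) = x⁻¹ * ((x * c.z1 * x⁻¹) * k) * x := by group
        _ = x⁻¹ * (k * (x * c.z1 * x⁻¹)) * x := by rw [hc]
        _ = _ := by group
    have hD : x⁻¹ * k * x ∈ c.D := by
      obtain ⟨a, b, ha, hb, e | e⟩ := c.mem_T (hT _ hk')
      · exact e ▸ c.g_mem_D ha hb
      · exfalso
        rw [e, z1, ← mul_assoc, c.g_mul, mul_assoc (c.g a b), c.σ_g, ← mul_assoc, c.g_mul, mul_one, one_mul] at hcm
        have h5 := (c.g_inj (mul_right_cancel hcm)).1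
        exact basics.1 (mul_eq_right.mp h5)
    have hxz := Subgroup.mem_centralizer_singleton_iff.mp hx
    rcases inD _ hk' hD with e | e
    · left; rw [← e]; group
    · right
      have e2 : c.z2 = c.z1 * c.zz := by rw [z1, zz, z2, c.g_mul, basics.2.2.2.1, one_mul]
      calc k = x * (x⁻¹ * k * x) * x⁻¹ := by group
        _ = x * c.z1 * x⁻¹ * (x * c.zz) * x⁻¹ := by rw [e, e2]; group
        _ = x * c.z1 * x⁻¹ * (c.zz * x) * x⁻¹ := by rw [hxz]
        _ = _ := by group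
  have allD : ∀ k, InO k → k ∈ c.D := by
    intro k hk
    obtain ⟨a, b, ha, hb, e | e⟩ := c.mem_T (hT _ hk)
    · exact e ▸ c.g_mem_D ha hb
    exfalso
    subst e
    have h2 := (hsq _ hk).1
    rw [show c.g a b * c.σ * (c.g a b * c.σ) = c.g a b * (c.σ * c.g a b) * c.σ by group, c.σ_g, ← mul_assoc,
      c.g_mul, mul_assoc, c.sq, mul_one] at h2
    obtain ⟨hab, hba⟩ := c.g_inj (h2.trans c.g_one.symm)
    have hσ : InO c.σ := by
      have h := hconj _ hk (c.g a⁻¹ 1)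
        (c.T_le_centralizer (c.D_le_T (c.g_mem_D (mem_d8.mp (inv_mem (mem_d8.mpr ha))) d8_mem.1)))
      rwa [c.g_inv, inv_inv, inv_one, mul_assoc (c.g a⁻¹ 1) (c.g a b * c.σ), mul_assoc (c.g a b), c.σ_g,
        ← mul_assoc (c.g a b), c.g_mul, ← mul_assoc, c.g_mul, mul_one, inv_mul_cancel, one_mul, hba,
        c.g_one, one_mul] at h
    have hσ' : InO (c.g tp tp * c.σ) := by
      have h := hconj _ hσ (c.g tp 1) (c.T_le_centralizer (c.D_le_T (c.g_mem_D d8_mem.2.2.1 d8_mem.1)))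
      rwa [c.g_inv, inv_one, d8_tv.2.2.2, mul_assoc, c.σ_g, ← mul_assoc, c.g_mul, one_mul, mul_one] at h
    have hc : c.σ * (c.g tp tp * c.σ) = c.g tp tp * c.σ * c.σ := by rw [← mul_assoc, c.σ_g]
    rcases claim _ _ hσ hσ' hc with e | e
    · exact basics.2.1 (c.g_inj ((mul_eq_right.mp e).trans c.g_one.symm)).1
    · rw [zz, c.σ_g] at e
      exact basics.2.2.2.2.2.2.1 (c.g_inj (mul_right_cancel e)).1
  refine le_antisymm (fun x hx => ?_) c.T_le_centralizer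
  have hxz := Subgroup.mem_centralizer_singleton_iff.mp hx
  have toT : ∀ y : G, y ∈ C → y * c.z1 * y⁻¹ = c.z1 → y ∈ c.T := by
    intro y hy e
    have h1 := mul_inv_eq_iff_eq_mul.mp e
    have h2 : y * c.z2 = c.z2 * y := by
      rw [show c.z2 = c.z1 * c.zz by rw [z1, zz, z2, c.g_mul, basics.2.2.2.1, one_mul], ← mul_assoc, h1,
        mul_assoc, Subgroup.mem_centralizer_singleton_iff.mp hy, mul_assoc]
    have hK : y ∈ c.K := ⟨Subgroup.mem_centralizer_singleton_iff.mpr h1,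
      Subgroup.mem_centralizer_singleton_iff.mpr h2⟩
    rw [c.K_eq hE] at hK
    exact c.D_le_T hK
  have hxO : InO (x * c.z1 * x⁻¹) := ⟨x, hx, rfl⟩
  rcases inD _ hxO (allD _ hxO) with e | e
  · exact toT x hx e
  · have h := toT (c.σ * x) (mul_mem (c.T_le_centralizer c.σ_mem_T) hx) (by
      rw [show c.σ * x * c.z1 * (c.σ * x)⁻¹ = c.σ * (x * c.z1 * x⁻¹) * c.σ⁻¹ by group, e, z2, c.σ_conj]; rfl)
    simpa using mul_mem (inv_mem c.σ_mem_T) h

theorem final [IsSimpleGroup G] (hE : IsOfEvenCharacteristic G) (h4 : 4 ≤ Nat.card G)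
    (hu : c.IsU (c.g tp 1)) (hz : c.IsZ (c.g tp zp)) (htt : c.IsZ (c.g tp tp)) : False := by
  haveI : Fact (Nat.Prime 2) := ⟨Nat.prime_two⟩
  have hCT := c.centralizer_zz hE hu hz htt
  set H := centralizer ({c.σ} : Set G)
  set R0 := c.T ⊓ H with hR0
  have hform : ∀ x ∈ R0, ∃ a : P4, InD8 a ∧ (x = c.g a a ∨ x = c.g a a * c.σ) := by
    rintro x ⟨hxT, hxH⟩
    have hc := Subgroup.mem_centralizer_singleton_iff.mp hxH
    obtain ⟨a, b, ha, hb, rfl | rfl⟩ := c.mem_T hxT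
    · rw [c.σ_g] at hc
      obtain ⟨rfl, -⟩ := c.g_inj (mul_right_cancel hc)
      exact ⟨a, ha, Or.inl rfl⟩
    · rw [← mul_assoc c.σ, c.σ_g] at hc
      obtain ⟨rfl, -⟩ := c.g_inj (mul_right_cancel (mul_right_cancel hc))
      exact ⟨a, ha, Or.inr rfl⟩
  have hcard : Nat.card R0 ≤ 16 := by
    let F : {a : P4 // InD8 a} × Bool → ↥R0 := fun p =>
      ⟨c.g p.1 p.1 * (if p.2 then c.σ else 1), mul_mem
        ⟨c.D_le_T (c.g_mem_D p.1.2 p.1.2),
          Subgroup.mem_centralizer_singleton_iff.mpr (c.σ_g _ _).symm⟩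
        (by split
            · exact ⟨c.σ_mem_T, Subgroup.mem_centralizer_singleton_iff.mpr rfl⟩
            · exact one_mem _)⟩
    have hF : Function.Surjective F := fun x => by
      obtain ⟨a, ha, e | e⟩ := hform x x.2
      · exact ⟨(⟨a, ha⟩, false), Subtype.ext (by simp [F, e])⟩
      · exact ⟨(⟨a, ha⟩, true), Subtype.ext (by simp [F, e])⟩
    have h := Nat.card_le_card_of_surjective F hF
    rwa [Nat.card_prod, card_d8, Nat.card_eq_fintype_card (α := Bool), Fintype.card_bool] at h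
  have hdiag : ∀ a : P4, InD8 a → c.g a a ∈ R0 := fun a ha =>
    ⟨c.D_le_T (c.g_mem_D ha ha), Subgroup.mem_centralizer_singleton_iff.mpr (c.σ_g _ _).symm⟩
  have hcomm : ∀ x ∈ R0, ∀ y ∈ R0, x * y * x⁻¹ * y⁻¹ = 1 ∨ x * y * x⁻¹ * y⁻¹ = c.zz := by
    intro x hx y hy
    obtain ⟨a, ha, e⟩ := hform x hx
    obtain ⟨a', ha', e'⟩ := hform y hy
    have key : x * y * x⁻¹ * y⁻¹ = c.g a a * c.g a' a' * (c.g a a)⁻¹ * (c.g a' a')⁻¹ := by
      have c1 : Commute c.σ (c.g a a) := c.σ_g a a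
      have c2 : Commute c.σ (c.g a' a') := c.σ_g a' a'
      have gen : ∀ s r u v : G, Commute s u → Commute s v → Commute r u → Commute r v → Commute s r →
          u * s * (v * r) * (u * s)⁻¹ * (v * r)⁻¹ = u * v * u⁻¹ * v⁻¹ := by
        intro s r u v h1 h2 h3 h4 h5
        have e1 : u * s * (v * r) = u * v * (s * r) := h2.mul_mul_mul_comm u r
        have e2 : v * r * (u * s) = v * u * (s * r) := by rw [h3.mul_mul_mul_comm v s, h5.eq]
        calc u * s * (v * r) * (u * s)⁻¹ * (v * r)⁻¹ = u * s * (v * r) * (v * r * (u * s))⁻¹ := by group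
          _ = u * v * (v * u)⁻¹ := by rw [e1, e2]; group
          _ = _ := by group
      rcases e with rfl | rfl <;> rcases e' with rfl | rfl
      · rfl
      · simpa using gen 1 c.σ (c.g a a) (c.g a' a') (Commute.one_left _) (Commute.one_left _) c1 c2 (Commute.one_left _)
      · simpa using gen c.σ 1 (c.g a a) (c.g a' a') c1 c2 (Commute.one_left _) (Commute.one_left _) (Commute.one_right _)
      · exact gen c.σ c.σ _ _ c1 c2 c1 c2 (Commute.refl _)
    rw [key, c.g_comm]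
    rcases comm_mem a a' ha ha' with k | k <;> rw [k]
    · exact Or.inl c.g_one
    · exact Or.inr rfl
  have hmax : ∀ Q : Subgroup G, IsPGroup 2 ↥Q → R0 ≤ Q → Q ≤ H → Q = R0 := by
    intro Q hQ hle hQH
    by_contra hne
    haveI : Group.IsNilpotent ↥Q := hQ.isNilpotent
    have hlt : R0.subgroupOf Q < ⊤ := lt_top_iff_ne_top.mpr fun e =>
      hne (le_antisymm (Subgroup.subgroupOf_eq_top.mp e) hle)
    obtain ⟨n, hn, hnR⟩ := SetLike.exists_of_lt (Group.normalizerCondition_of_isNilpotent _ hlt)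
    apply hnR
    have hmem : ∀ x ∈ R0, (n : G) * x * (n : G)⁻¹ ∈ R0 := fun x hx =>
      (Subgroup.mem_normalizer_iff.mp hn ⟨x, hle hx⟩).mp hx
    have e : c.g tp tp * c.g vp vp * (c.g tp tp)⁻¹ * (c.g vp vp)⁻¹ = c.zz := by
      rw [c.g_comm, zz]; congr 1 <;> decide
    have hz' : (n : G) * c.zz * (n : G)⁻¹ = c.zz := by
      rcases hcomm _ (hmem _ (hdiag tp d8_mem.2.2.1)) _ (hmem _ (hdiag vp d8_mem.2.2.2.1)) with k | k <;>
        rw [conj_comm, e] at k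
      · exact absurd (conj_eq_one_iff.mp k) c.zz_ne
      · exact k
    have hnT : (n : G) ∈ c.T := hCT ▸ Subgroup.mem_centralizer_singleton_iff.mpr (mul_inv_eq_iff_eq_mul.mp hz')
    exact ⟨hnT, hQH n.2⟩
  have notD : ∀ g : G, g⁻¹ * c.σ * g ∉ c.D := by
    intro g hg
    obtain ⟨a, b, ha, hb, e⟩ := c.mem_D.mp hg
    have h2 : g⁻¹ * c.σ * g * (g⁻¹ * c.σ * g) = 1 := by
      rw [show g⁻¹ * c.σ * g * (g⁻¹ * c.σ * g) = g⁻¹ * (c.σ * c.σ) * g by group, c.sq, mul_one, inv_mul_cancel]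
    have h1 : g⁻¹ * c.σ * g ≠ 1 := fun k => c.σ_notMem (by
      rw [show c.σ = g * (g⁻¹ * c.σ * g) * g⁻¹ by group, k, mul_one, mul_inv_cancel]; exact one_mem _)
    rw [← e] at h2 h1
    have hcs : IsConj c.σ (c.g a b) := isConj_iff.mpr ⟨g⁻¹, by rw [inv_inv, e]⟩
    obtain ⟨w, hw, hcw⟩ : ∃ w : G, (∀ y ∈ c.D, y * w = w * y) ∧ IsConj w c.σ := by
      rcases c.invol_class hu hz htt ha hb h2 h1 with ⟨k, -⟩ | ⟨k, -⟩
      · exact ⟨c.z1, fun y hy => c.z1_comm hy, k.trans hcs.symm⟩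
      · exact ⟨c.zz, fun y hy => c.zz_comm (c.D_le_T hy), k.trans hcs.symm⟩
    obtain ⟨k, hk⟩ := isConj_iff.mp hcw
    obtain ⟨h, -, hh⟩ := exists_sylow_conj (H := H) (B := c.D.map (MulAut.conj k).toMonoidHom)
      (c.isPGroup_D.map _) (by
        rintro _ ⟨y, hy, rfl⟩
        refine Subgroup.mem_centralizer_singleton_iff.mpr ?_
        show k * y * k⁻¹ * c.σ = c.σ * (k * y * k⁻¹)
        rw [← hk]
        calc k * y * k⁻¹ * (k * w * k⁻¹) = k * (y * w) * k⁻¹ := by group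
          _ = k * (w * y) * k⁻¹ := by rw [hw y hy]
          _ = _ := by group)
      (c.isPGroup_T.to_le inf_le_left) inf_le_right hmax
    have hle := Subgroup.card_le_of_le (show (c.D.map (MulAut.conj k).toMonoidHom).map
      (MulAut.conj h).toMonoidHom ≤ R0 by rintro _ ⟨y, hy, rfl⟩; exact hh y hy)
    rw [Subgroup.card_map_of_injective (MulAut.conj h).injective,
      Subgroup.card_map_of_injective (MulAut.conj k).injective, c.card_D] at hle
    omega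
  obtain ⟨m, hm, hodd⟩ := c.index_half c.D_le_T c.σ_mem_T fun x hx => by
    by_cases hb : x ∈ c.D
    · refine Or.inr ⟨hb, fun h' => c.σ_notMem ?_⟩
      simpa using mul_mem (inv_mem hb) h'
    · exact Or.inl ⟨(hx : x ∈ c.D ∨ x * c.σ ∈ c.D).resolve_left hb, hb⟩
  obtain ⟨K, hK, hK2⟩ := CfsgLib.RankTwoSimple.exists_index_two c.D hm hodd c.sq notD
  exact CfsgLib.RankTwoSimple.not_index_two h4 hK hK2

end Cfg

end CfsgLib.QTWreath
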