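import Mathlib.GroupTheory.Transfer
import Cfsg.Agent.Lib.CoreKill.Basic
import Cfsg.Agent.Lib.QTWreath.Centre

/-!
`C(Z(D)) = D` by Burnside, and `N(D) = T`.

Blueprint: `blueprint/S1829.md`.
-/

set_option autoImplicit false
set_option linter.unusedSectionVars false
set_option linter.style.haveILetI false

universe u

namespace CfsgLib.QTWreath

open Cfsg Subgroup

variable {G : Type u} [Group G] [Finite G]

namespace Cfg

variable (c : Cfg G)

theorem zd_central_comm {d : P4} (hd : d = 1 ∨ d = zp) {a : P4} (ha : InD8 a) : a * d = d * a := by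
  rcases hd with rfl | rfl
  · simp
  · exact ha

/-- In `N(D) ∩ C(Z(D))` the generators of one factor go to that factor modulo `Z(D)`. -/
theorem gen_image {n : G} (hn : n ∈ normalizer (c.D : Set G)) (hK : n ∈ c.K) (one : Bool) {a₀ : P4}
    (ha₀ : a₀ = tp ∨ a₀ = vp) :
    n * (if one then c.g a₀ 1 else c.g 1 a₀) * n⁻¹ * (if one then c.g tp 1 else c.g 1 tp)⁻¹ ∈ c.ZD ∨
    n * (if one then c.g a₀ 1 else c.g 1 a₀) * n⁻¹ * (if one then c.g vp 1 else c.g 1 vp)⁻¹ ∈ c.ZD := by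
  have hd : InD8 a₀ := by rcases ha₀ with rfl | rfl; exacts [d8_mem.2.2.1, d8_mem.2.2.2.1]
  have hsq : a₀ * a₀ = 1 := by rcases ha₀ with rfl | rfl; exacts [basics.2.2.2.2.1, basics.2.2.2.2.2.1]
  set x₀ := if one then c.g a₀ 1 else c.g 1 a₀ with hx₀
  have hx₀D : x₀ ∈ c.D := by
    cases one
    · exact c.g_mem_D d8_mem.1 hd
    · exact c.g_mem_D hd d8_mem.1
  obtain ⟨a, b, ha, hb, e⟩ := c.mem_D.mp ((Subgroup.mem_normalizer_iff.mp hn _).mp hx₀D)
  have hxZ : x₀ ∉ c.ZD := by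
    intro h
    rcases c.mem_ZD.mp h with h | h | h | h <;> cases one <;> rcases ha₀ with rfl | rfl
    all_goals
      first
        | (rw [← c.g_one] at h; exact absurd (c.g_inj h) (by decide))
        | exact absurd (c.g_inj h) (by decide)
  have hab : ¬ ((a = 1 ∨ a = zp) ∧ (b = 1 ∨ b = zp)) := fun h => hxZ (by
    have h1 := c.g_mem_ZD h.1 h.2
    rw [e] at h1
    have h2 := c.K_comm_ZD (inv_mem hK) h1
    rw [show n⁻¹ * (n * x₀ * n⁻¹) = x₀ * n⁻¹ by group, mul_left_inj] at h2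
    rwa [← h2] at h1)
  have hab2 : a * a = 1 ∧ b * b = 1 := c.g_inj (by
    rw [← c.g_mul, e, c.g_one, show n * x₀ * n⁻¹ * (n * x₀ * n⁻¹) = n * (x₀ * x₀) * n⁻¹ by group]
    cases one <;> simp [hx₀, c.g_mul, hsq, c.g_one])
  have hcom : ∀ p q : P4, InD8 p → InD8 q →
      (if one then b * q * b⁻¹ * q⁻¹ else a * p * a⁻¹ * p⁻¹) = 1 := by
    intro p q hp hq
    obtain ⟨p', q', hp', hq', e'⟩ := c.mem_D.mp
      (show n⁻¹ * c.g p q * n ∈ c.D by
        simpa using (Subgroup.mem_normalizer_iff.mp (inv_mem hn) _).mp (c.g_mem_D hp hq))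
    have h1 : c.g (a * p * a⁻¹ * p⁻¹) (b * q * b⁻¹ * q⁻¹) =
        n * (x₀ * c.g p' q' * x₀⁻¹ * (c.g p' q')⁻¹) * n⁻¹ := by
      rw [← c.g_comm, e, e', ← conj_comm, show n * (n⁻¹ * c.g p q * n) * n⁻¹ = c.g p q by group]
    have h2 : x₀ * c.g p' q' * x₀⁻¹ * (c.g p' q')⁻¹ ∈ c.ZD := (c.D_le_St hx₀D).2 _ (c.g_mem_D hp' hq')
    rw [c.K_comm_ZD hK h2, mul_inv_cancel_right] at h1
    cases one
    · simp only [hx₀, Bool.false_eq_true, ↓reduceIte, c.g_comm] at h1 ⊢
      rw [(c.g_inj h1).1]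
      group
    · simp only [hx₀, ↓reduceIte, c.g_comm] at h1 ⊢
      rw [(c.g_inj h1).2]
      group
  have cen : ∀ w : P4, InD8 w → (∀ p, InD8 p → w * p * w⁻¹ * p⁻¹ = 1) → w = 1 ∨ w = zp := by
    intro w hw h
    rcases noncentral w hw with h' | h' | ⟨p, hp, h'⟩
    · exact Or.inl h'
    · exact Or.inr h'
    · exact absurd ((h p hp).symm.trans h').symm basics.1
  cases one
  · have haz := cen a ha fun p hp => hcom p 1 hp d8_mem.1
    rcases classV b hb hab2.2 with h | h | ⟨d, hd', rfl⟩ | ⟨d, hd', rfl⟩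
    · exact absurd ⟨haz, Or.inl h⟩ hab
    · exact absurd ⟨haz, Or.inr h⟩ hab
    · left
      simp only [Bool.false_eq_true, ↓reduceIte, ← e, c.g_inv, c.g_mul, inv_one, mul_one,
        zd_central_comm hd' d8_mem.2.2.1, mul_inv_cancel_right]
      exact c.g_mem_ZD haz hd'
    · right
      simp only [Bool.false_eq_true, ↓reduceIte, ← e, c.g_inv, c.g_mul, inv_one, mul_one,
        zd_central_comm hd' d8_mem.2.2.2.1, mul_inv_cancel_right]
      exact c.g_mem_ZD haz hd'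
  · have hbz := cen b hb fun q hq => hcom 1 q d8_mem.1 hq
    rcases classV a ha hab2.1 with h | h | ⟨d, hd', rfl⟩ | ⟨d, hd', rfl⟩
    · exact absurd ⟨Or.inl h, hbz⟩ hab
    · exact absurd ⟨Or.inr h, hbz⟩ hab
    · left
      simp only [↓reduceIte, ← e, c.g_inv, c.g_mul, inv_one, mul_one,
        zd_central_comm hd' d8_mem.2.2.1, mul_inv_cancel_right]
      exact c.g_mem_ZD hd' hbz
    · right
      simp only [↓reduceIte, ← e, c.g_inv, c.g_mul, inv_one, mul_one,
        zd_central_comm hd' d8_mem.2.2.2.1, mul_inv_cancel_right]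
      exact c.g_mem_ZD hd' hbz

theorem pow_four_mem {n : G} (hn : n ∈ normalizer (c.D : Set G)) (hK : n ∈ c.K) : n ^ 4 ∈ c.St := by
  have a1 := c.gen_image hn hK true (Or.inl rfl)
  have a2 := (c.gen_image hn hK true (Or.inr rfl)).symm
  have a3 := c.gen_image hn hK false (Or.inl rfl)
  have a4 := (c.gen_image hn hK false (Or.inr rfl)).symm
  simp only [↓reduceIte, Bool.false_eq_true] at a1 a2 a3 a4
  refine ⟨pow_mem hK 4, fun y hy => ?_⟩
  rw [c.D_le_centralizer_of (c.pow_four_fix hK a1 a2) (c.pow_four_fix hK a2 a1) (c.pow_four_fix hK a3 a4)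
    (c.pow_four_fix hK a4 a3) y hy, mul_inv_cancel]
  exact one_mem _

/-- The Sylow subgroup `D` of `K`. -/
theorem D_maximal {B : Subgroup G} (hB : IsPGroup 2 ↥B) (hle : c.D ≤ B) (hBK : B ≤ c.K) : B = c.D := by
  by_contra h
  exact c.no128 hB (lt_of_le_of_ne hle (Ne.symm h)) (hBK.trans inf_le_left)

theorem normalizer_K {n : G} (hn : n ∈ normalizer (c.D : Set G)) (hK : n ∈ c.K) : n ∈ c.St := by
  haveI : Fact (Nat.Prime 2) := ⟨Nat.prime_two⟩
  obtain ⟨k, m, hm, he⟩ := Nat.exists_eq_two_pow_mul_odd (orderOf_pos n).ne'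
  have h1 : n ^ m ∈ c.D := by
    have hp : IsPGroup 2 ↥(Subgroup.zpowers (n ^ m)) := by
      refine IsPGroup.of_card (n := k) ?_
      rw [Nat.card_zpowers, orderOf_pow' n hm.pos.ne', he, Nat.gcd_eq_right (Dvd.intro_left _ rfl),
        Nat.mul_div_cancel _ hm.pos]
    have hz : Subgroup.zpowers (n ^ m) ≤ normalizer (c.D : Set G) :=
      Subgroup.zpowers_le.mpr (pow_mem hn m)
    have h2 := c.D_maximal (IsPGroup.to_sup_of_normal_right' hp c.isPGroup_D hz) le_sup_right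
      (sup_le (Subgroup.zpowers_le.mpr (pow_mem hK m)) c.D_le_K)
    exact h2 ▸ Subgroup.mem_sup_left (Subgroup.mem_zpowers _)
  have h4 := c.pow_four_mem hn hK
  have hg : Nat.gcd 4 m = 1 := (Nat.coprime_two_left.mpr hm).pow_left 2
  have h5 := Nat.gcd_eq_gcd_ab 4 m
  rw [hg] at h5
  have h6 : n = (n ^ 4) ^ Nat.gcdA 4 m * (n ^ m) ^ Nat.gcdB 4 m := by
    rw [← zpow_natCast n 4, ← zpow_mul, ← zpow_natCast n m, ← zpow_mul, ← zpow_add, ← h5]
    simp
  rw [h6]
  exact mul_mem (zpow_mem h4 _) (zpow_mem (c.D_le_St h1) _)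

set_option maxHeartbeats 800000 in
theorem K_eq (hE : IsOfEvenCharacteristic G) : c.K = c.D := by
  haveI : Fact (Nat.Prime 2) := ⟨Nat.prime_two⟩
  set Zs := c.ZD.subgroupOf c.K with hZs
  have hcen : ∀ x ∈ Zs, ∀ k : ↥c.K, k * x = x * k := fun x hx k => Subtype.ext (c.K_comm_ZD k.2 hx)
  haveI hZn : Zs.Normal := ⟨fun x hx k => by
    rwa [hcen x hx k, mul_inv_cancel_right]⟩
  have hDp : IsPGroup 2 ↥(c.D.subgroupOf c.K) :=
    c.isPGroup_D.of_equiv (Subgroup.subgroupOfEquivOfLe c.D_le_K).symm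
  let P : Sylow 2 ↥c.K := ⟨c.D.subgroupOf c.K, hDp, fun {Q} hQ hle => by
    have h := c.D_maximal (hQ.map c.K.subtype) (fun x hx => ⟨⟨x, c.D_le_K hx⟩, hle hx, rfl⟩)
      (Subgroup.map_subtype_le _)
    exact le_antisymm (fun (x : ↥c.K) hx => show (x : G) ∈ c.D from
      h ▸ (⟨x, hx, rfl⟩ : (x : G) ∈ Q.map c.K.subtype)) hle⟩
  set π := QuotientGroup.mk' Zs with hπ
  let Pb : Sylow 2 (↥c.K ⧸ Zs) := P.mapSurjective (f := π) (QuotientGroup.mk'_surjective Zs)
  have hPb : (Pb : Subgroup (↥c.K ⧸ Zs)) = (c.D.subgroupOf c.K).map π := Sylow.coe_mapSurjective _ P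
  have hcentral : normalizer ((Pb : Subgroup (↥c.K ⧸ Zs)) : Set (↥c.K ⧸ Zs)) ≤
      centralizer ((Pb : Subgroup (↥c.K ⧸ Zs)) : Set (↥c.K ⧸ Zs)) := by
    intro q hq
    obtain ⟨n, rfl⟩ := QuotientGroup.mk'_surjective Zs q
    have hback : ∀ x : ↥c.K, π x ∈ (Pb : Subgroup _) → (x : G) ∈ c.D := fun x hx => by
      rw [hPb] at hx
      obtain ⟨y, hy, e⟩ := hx
      have h1 : y⁻¹ * x ∈ Zs := QuotientGroup.eq.mp e
      have := mul_mem (show (y : G) ∈ c.D from hy) (c.ZD_le_D h1)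
      simpa using this
    have hforw : ∀ x : ↥c.K, (x : G) ∈ c.D → π x ∈ (Pb : Subgroup _) := fun x hx => by
      rw [hPb]; exact ⟨x, hx, rfl⟩
    have hnD : (n : G) ∈ normalizer (c.D : Set G) := Subgroup.mem_normalizer_iff.mpr fun y => by
      constructor <;> intro hy
      · refine hback (n * ⟨y, c.D_le_K hy⟩ * n⁻¹) ?_
        rw [map_mul, map_mul, map_inv]
        exact (Subgroup.mem_normalizer_iff.mp hq _).mp (hforw _ hy)
      · have hyK : y ∈ c.K := by
          have := mul_mem (mul_mem (inv_mem n.2) (c.D_le_K hy)) n.2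
          rwa [show (n : G)⁻¹ * (n * y * (n : G)⁻¹) * n = y by group] at this
        refine hback ⟨y, hyK⟩ ((Subgroup.mem_normalizer_iff.mp hq _).mpr ?_)
        rw [← map_inv, ← map_mul, ← map_mul]
        exact hforw _ hy
    have hS := (c.normalizer_K hnD n.2).2
    refine Subgroup.mem_centralizer_iff.mpr fun p hp => ?_
    obtain ⟨x, rfl⟩ := QuotientGroup.mk'_surjective Zs p
    rw [← map_mul, ← map_mul]
    refine QuotientGroup.eq.mpr ?_
    have h2 := hS x (hback x hp)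
    rw [Subgroup.mem_subgroupOf]
    have h3 := c.K_comm_ZD (inv_mem (mul_mem x.2 n.2)) h2
    rw [show ((x * n)⁻¹ * (n * x) : ↥c.K) = ((x : G) * n)⁻¹ * ((n : G) * x) from rfl,
      show ((x : G) * n)⁻¹ * ((n : G) * x) = ((x : G) * n)⁻¹ * (n * x * (n : G)⁻¹ * (x : G)⁻¹) * ((x : G) * n) by
        group, h3, inv_mul_cancel_right]
    exact h2
  have hcompl := MonoidHom.ker_transferSylow_isComplement' Pb hcentral
  have hnd : ¬ 2 ∣ Nat.card (MonoidHom.transferSylow Pb hcentral).ker :=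
    MonoidHom.not_dvd_card_ker_transferSylow Pb hcentral
  set Kb := (MonoidHom.transferSylow Pb hcentral).ker with hKb
  set K1 := Kb.comap π with hK1
  haveI hK1n : K1.Normal := Subgroup.normal_comap π
  haveI hO1 : (oddCore ↥K1).Normal := by unfold oddCore; infer_instance
  have hcore : oddCore ↥K1 = ⊥ := by
    refine (Subgroup.map_eq_bot_iff_of_injective _ K1.subtype_injective).mp (le_bot_iff.mp ?_)
    rw [← c.oddCore_K hE]
    exact ZStar.map_pPrimeCore_le_of_normal K1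
  have hodd : Odd (Nat.card Kb) := Nat.odd_iff.mpr (Nat.two_dvd_ne_zero.mp hnd)
  -- the transfer into the centre of `K1`
  have hkill : ∀ x : ↥K1, x ^ (4 * Nat.card Kb) = 1 := fun x => by
    have h1 : π ((x : ↥c.K) ^ Nat.card Kb) = 1 := by
      rw [map_pow]
      exact congrArg Subtype.val (pow_card_eq_one' (x := (⟨π x, x.2⟩ : ↥Kb)))
    have h2 : (((x : ↥c.K) ^ Nat.card Kb : ↥c.K) : G) ∈ c.ZD :=
      show (x : ↥c.K) ^ Nat.card Kb ∈ Zs from (QuotientGroup.eq_one_iff _).mp h1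
    have h3 := c.ZD_sq h2
    refine Subtype.ext (Subtype.ext ?_)
    simp only [SubgroupClass.coe_pow, OneMemClass.coe_one] at h3 ⊢
    rw [show 4 * Nat.card Kb = Nat.card Kb + Nat.card Kb + (Nat.card Kb + Nat.card Kb) by ring, pow_add, pow_add,
      h3, one_mul]
  have hcomm : ∀ x : ↥K1, x ∈ Subgroup.center ↥K1 := by
    have hZc : ∀ x : ↥K1, (x : ↥c.K) ∈ Zs → x ∈ Subgroup.center ↥K1 := fun x hx =>
      Subgroup.mem_center_iff.mpr fun y => Subtype.ext (hcen x hx y)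
    have hoddi : Odd (Subgroup.center ↥K1).index := by
      refine hodd.of_dvd_nat ?_
      have h1 : (Zs.subgroupOf K1).index = Nat.card Kb := by
        change Zs.relIndex K1 = _
        calc Zs.relIndex K1 = (Subgroup.comap π ⊥).relIndex K1 :=
              congrArg (fun X : Subgroup ↥c.K => X.relIndex K1) (QuotientGroup.ker_mk' Zs).symm
          _ = (⊥ : Subgroup (↥c.K ⧸ Zs)).relIndex (K1.map π) := Subgroup.relIndex_comap ⊥ π K1
          _ = _ := by
            rw [hK1, Subgroup.map_comap_eq_self_of_surjective (QuotientGroup.mk'_surjective Zs),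
              Subgroup.relIndex_bot_left]
      rw [← h1]
      exact Subgroup.index_dvd_of_le fun x hx => hZc x hx
    set τ := MonoidHom.transferCenterPow ↥K1 with hτ
    have hker : τ.ker = ⊥ := by
      refine le_bot_iff.mp ?_
      rw [← hcore]
      refine CfsgLib.le_oddCore ?_
      rw [← Nat.not_even_iff_odd, even_iff_two_dvd]
      intro hd
      obtain ⟨y, hy⟩ := exists_prime_orderOf_dvd_card' 2 hd
      have h1 : (y : ↥K1) ^ (Subgroup.center ↥K1).index = 1 := by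
        rw [← MonoidHom.transferCenterPow_apply, show τ (y : ↥K1) = 1 from y.2]
        rfl
      have h2 := orderOf_dvd_of_pow_eq_one h1
      rw [Subgroup.orderOf_coe, hy] at h2
      exact Nat.not_even_iff_odd.mpr hoddi (even_iff_two_dvd.mpr h2)
    intro x
    refine Subgroup.mem_center_iff.mpr fun y => ?_
    refine (MonoidHom.ker_eq_bot_iff τ).mp hker ?_
    rw [map_mul, map_mul]
    exact Subtype.ext (Subgroup.mem_center_iff.mp (τ x).2 (τ y : ↥K1))
  have hexp : ∀ x : ↥K1, x ^ 4 = 1 := by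
    intro x
    have hodd4 : Odd (orderOf (x ^ 4)) := by
      refine hodd.of_dvd_nat (orderOf_dvd_of_pow_eq_one ?_)
      rw [← pow_mul]
      exact hkill x
    haveI : (Subgroup.zpowers (x ^ 4)).Normal := ⟨fun a ha b => by
      rwa [Subgroup.mem_center_iff.mp (hcomm a) b, mul_inv_cancel_right]⟩
    have h1 : Subgroup.zpowers (x ^ 4) ≤ oddCore ↥K1 :=
      CfsgLib.le_oddCore (by rw [Nat.card_zpowers]; exact hodd4)
    rw [hcore, le_bot_iff, Subgroup.zpowers_eq_bot] at h1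
    exact h1
  have hKb1 : Kb = ⊥ := by
    rw [Subgroup.eq_bot_iff_forall]
    intro q hq
    obtain ⟨x, rfl⟩ := QuotientGroup.mk'_surjective Zs q
    have h1 : (π x) ^ 4 = 1 := by
      rw [← map_pow, show x ^ 4 = 1 from congrArg Subtype.val (hexp ⟨x, hq⟩), map_one]
    refine orderOf_eq_one_iff.mp (Nat.eq_one_of_dvd_coprimes (a := 2 ^ 2) ?_ (orderOf_dvd_of_pow_eq_one h1)
      (Subgroup.orderOf_dvd_natCard _ hq))
    exact (Nat.coprime_two_left.mpr hodd).pow_left 2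
  refine le_antisymm (fun k hk => ?_) c.D_le_K
  have h1 : π ⟨k, hk⟩ ∈ (Pb : Subgroup _) := by
    have := hcompl.sup_eq_top
    rw [hKb1, bot_sup_eq] at this
    rw [this]
    trivial
  rw [hPb] at h1
  obtain ⟨y, hy, e⟩ := h1
  have h2 : y⁻¹ * (⟨k, hk⟩ : ↥c.K) ∈ Zs := QuotientGroup.eq.mp e
  have := mul_mem (show (y : G) ∈ c.D from hy) (c.ZD_le_D h2)
  simpa using this

theorem normalizer_D (hE : IsOfEvenCharacteristic G) : normalizer (c.D : Set G) = c.T := by
  refine le_antisymm (fun n hn => ?_) c.T_le_normalizer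
  have key : ∀ m : G, m ∈ normalizer (c.D : Set G) → m * c.z1 * m⁻¹ = c.z1 → m ∈ c.T := by
    intro m hm e
    have h2 : m * c.z2 * m⁻¹ = c.z2 := by
      have hσm : c.σ * m * c.σ⁻¹ ∈ normalizer (c.D : Set G) := by
        have hσ := c.T_le_normalizer c.σ_mem_T
        exact mul_mem (mul_mem hσ hm) (inv_mem hσ)
      rcases c.fix_pair hσm with e' | e'
      · rw [← c.σ_z1]
        calc m * (c.σ * c.z1 * c.σ⁻¹) * m⁻¹
            = c.σ * (c.σ⁻¹ * m * c.σ * c.z1 * (c.σ⁻¹ * m * c.σ)⁻¹) * c.σ⁻¹ := by group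
          _ = c.σ * (c.σ * m * c.σ⁻¹ * c.z1 * (c.σ * m * c.σ⁻¹)⁻¹) * c.σ⁻¹ := by rw [c.σ_inv]
          _ = _ := by rw [e']
      · exfalso
        have h3 : m * c.z2 * m⁻¹ = c.z1 := by
          calc m * c.z2 * m⁻¹ = m * (c.σ * c.z1 * c.σ⁻¹) * m⁻¹ := by rw [c.σ_z1]
            _ = m * (c.σ⁻¹ * c.z1 * c.σ) * m⁻¹ := by rw [c.σ_inv]
            _ = c.σ⁻¹ * (c.σ * m * c.σ⁻¹ * c.z1 * (c.σ * m * c.σ⁻¹)⁻¹) * c.σ := by group
            _ = c.σ⁻¹ * c.z2 * c.σ := by rw [e']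
            _ = c.z1 := by rw [← c.σ_z1]; group
        have := h3.trans e.symm
        rw [mul_left_inj, mul_right_inj] at this
        exact basics.1 (c.g_inj this.symm).1
    refine c.D_le_T (c.K_eq hE ▸ ⟨?_, ?_⟩) <;> refine Subgroup.mem_centralizer_singleton_iff.mpr ?_
    · exact mul_inv_eq_iff_eq_mul.mp e
    · exact mul_inv_eq_iff_eq_mul.mp h2
  rcases c.fix_pair hn with e | e
  · exact key n hn e
  · have hσ := c.T_le_normalizer c.σ_mem_T
    have h1 : c.σ * n * c.z1 * (c.σ * n)⁻¹ = c.z1 := by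
      calc c.σ * n * c.z1 * (c.σ * n)⁻¹ = c.σ * (n * c.z1 * n⁻¹) * c.σ⁻¹ := by group
        _ = c.z1 := by rw [e, z2, c.σ_conj]; rfl
    have := mul_mem c.σ_mem_T (key _ (mul_mem hσ hn) h1)
    rwa [← mul_assoc, c.sq, one_mul] at this

end Cfg

end CfsgLib.QTWreath
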