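import Mathlib.GroupTheory.Perm.Sign
import Cfsg.Agent.Lib.Fusion.RankTwoSimple
import Cfsg.Agent.Lib.QTWreath.KEq

/-!
Classes of involutions and the first transfer.

Blueprint: `blueprint/S1829.md`.
-/

set_option autoImplicit false
set_option linter.unusedSectionVars false
set_option linter.style.haveILetI false

universe u

namespace CfsgLib.QTWreath

open Cfsg Subgroup

variable {G : Type u} [Group G] [Finite G]

theorem isConj_conj (g x : G) : IsConj x (g * x * g⁻¹) := isConj_iff.mpr ⟨g, rfl⟩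

theorem v_fused : ∀ a : P4, InV a → a ≠ 1 → ∃ m : P4, m * zp * m⁻¹ = a := by decide +kernel

theorem signs : Equiv.Perm.sign zp = 1 ∧ Equiv.Perm.sign tp = -1 ∧ Equiv.Perm.sign vp = 1 := by decide

theorem exists_sylow_conj {H B : Subgroup G} (hB : IsPGroup 2 ↥B) (hBH : B ≤ H) {P : Subgroup G}
    (hP : IsPGroup 2 ↥P) (hPH : P ≤ H)
    (hmax : ∀ Q : Subgroup G, IsPGroup 2 ↥Q → P ≤ Q → Q ≤ H → Q = P) :
    ∃ h ∈ H, ∀ x ∈ B, h * x * h⁻¹ ∈ P := by
  haveI : Fact (Nat.Prime 2) := ⟨Nat.prime_two⟩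
  obtain ⟨Q₁, hQ₁⟩ := (hB.of_equiv (Subgroup.subgroupOfEquivOfLe hBH).symm :
    IsPGroup 2 ↥(B.subgroupOf H)).exists_le_sylow
  let PS : Sylow 2 ↥H := ⟨P.subgroupOf H, hP.of_equiv (Subgroup.subgroupOfEquivOfLe hPH).symm,
    fun {Q} hQ hle => by
      have h := hmax _ (hQ.map H.subtype) (fun x hx => ⟨⟨x, hPH hx⟩, hle hx, rfl⟩) (Subgroup.map_subtype_le _)
      exact le_antisymm (fun (x : ↥H) hx => show (x : G) ∈ P from
        h ▸ (⟨x, hx, rfl⟩ : (x : G) ∈ Q.map H.subtype)) hle⟩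
  obtain ⟨k, hk⟩ := MulAction.exists_smul_eq ↥H Q₁ PS
  refine ⟨k, k.2, fun x hx => ?_⟩
  have h4 : k * ⟨x, hBH hx⟩ * k⁻¹ ∈ (PS : Subgroup ↥H) := by
    rw [← hk, Sylow.coe_subgroup_smul]
    exact Subgroup.smul_mem_pointwise_smul_iff.mpr (hQ₁ (show (⟨x, hBH hx⟩ : ↥H) ∈ B.subgroupOf H from hx))
  exact h4

namespace Cfg

variable (c : Cfg G)

/-- The class of `z₁`. -/
def IsU (x : G) : Prop := IsConj c.z1 x

/-- The class of `z`. -/
def IsZ (x : G) : Prop := IsConj c.zz x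

theorem U_conj {x : G} (h : c.IsU x) (g : G) : c.IsU (g * x * g⁻¹) := h.trans (isConj_conj g x)

theorem Z_conj {x : G} (h : c.IsZ x) (g : G) : c.IsZ (g * x * g⁻¹) := h.trans (isConj_conj g x)

theorem U_conj_iff {x : G} (g : G) : c.IsU (g * x * g⁻¹) ↔ c.IsU x :=
  ⟨fun h => h.trans (isConj_conj g x).symm, fun h => c.U_conj h g⟩

theorem Z_conj_iff {x : G} (g : G) : c.IsZ (g * x * g⁻¹) ↔ c.IsZ x :=
  ⟨fun h => h.trans (isConj_conj g x).symm, fun h => c.Z_conj h g⟩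

theorem g_isConj (a b m k : P4) : IsConj (c.g a b) (c.g (m * a * m⁻¹) (k * b * k⁻¹)) := by
  rw [← c.g_conj]
  exact isConj_conj _ _

theorem g_isConj_swap (a b : P4) : IsConj (c.g a b) (c.g b a) := c.σ_conj a b ▸ isConj_conj _ _

theorem g_U {a : P4} (ha : InV a) (h1 : a ≠ 1) : c.IsU (c.g a 1) ∧ c.IsU (c.g 1 a) := by
  obtain ⟨m, hm⟩ := v_fused a ha h1
  have h : c.IsU (c.g a 1) := by
    have := c.g_isConj zp 1 m 1
    rwa [hm, show (1 : P4) * 1 * 1⁻¹ = 1 by group] at this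
  exact ⟨h, h.trans (c.g_isConj_swap a 1)⟩

theorem g_Z {a b : P4} (ha : InV a) (ha1 : a ≠ 1) (hb : InV b) (hb1 : b ≠ 1) : c.IsZ (c.g a b) := by
  obtain ⟨m, hm⟩ := v_fused a ha ha1
  obtain ⟨k, hk⟩ := v_fused b hb hb1
  have := c.g_isConj zp zp m k
  rwa [hm, hk] at this

theorem D_lt {B : Subgroup G} (hle : c.D ≤ B) (hcard : 64 < Nat.card B) : c.D < B :=
  lt_of_le_of_ne hle fun e => by rw [← e, c.card_D] at hcard; exact lt_irrefl _ hcard

/-- `D` is a Sylow subgroup of `C(z₂)`. -/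
theorem toD2 {B : Subgroup G} (hB : IsPGroup 2 ↥B) (hBC : B ≤ centralizer ({c.z2} : Set G)) :
    ∃ h ∈ centralizer ({c.z2} : Set G), ∀ x ∈ B, h * x * h⁻¹ ∈ c.D := by
  refine exists_sylow_conj hB hBC c.isPGroup_D
    (fun x hx => Subgroup.mem_centralizer_singleton_iff.mpr (c.z2_comm hx)) fun Q hQ hle hQC => ?_
  by_contra hne
  have hσ : c.σ ∈ normalizer (c.D : Set G) := c.T_le_normalizer c.σ_mem_T
  refine c.no128 (B := Q.map (MulAut.conj c.σ).toMonoidHom) (hQ.map _) ?_ ?_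
  · refine lt_of_le_of_ne (fun x hx => ⟨c.σ⁻¹ * x * c.σ, hle ?_, show c.σ * _ * c.σ⁻¹ = x by group⟩) fun e => ?_
    · simpa using (Subgroup.mem_normalizer_iff.mp (inv_mem hσ) x).mp hx
    · refine hne (Subgroup.eq_of_le_of_card_ge hle ?_).symm
      rw [e, Subgroup.card_map_of_injective (MulAut.conj c.σ).injective]
  · rintro _ ⟨x, hx, rfl⟩
    refine Subgroup.mem_centralizer_singleton_iff.mpr ?_
    have h := Subgroup.mem_centralizer_singleton_iff.mp (hQC hx)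
    show c.σ * x * c.σ⁻¹ * c.z1 = c.z1 * (c.σ * x * c.σ⁻¹)
    rw [show c.z1 = c.σ * c.z2 * c.σ⁻¹ by rw [z2, c.σ_conj]; rfl]
    calc c.σ * x * c.σ⁻¹ * (c.σ * c.z2 * c.σ⁻¹) = c.σ * (x * c.z2) * c.σ⁻¹ := by group
      _ = c.σ * (c.z2 * x) * c.σ⁻¹ := by rw [h]
      _ = _ := by group

theorem U_ne_Z {x : G} (hU : c.IsU x) (hZ : c.IsZ x) : False := by
  obtain ⟨g, hg⟩ := isConj_iff.mp (hZ.trans hU.symm)
  obtain ⟨h, -, hh⟩ := c.toD2 (B := (c.T.map (MulAut.conj (c.σ * g)).toMonoidHom))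
    (c.isPGroup_T.map _) (by
      rintro _ ⟨y, hy, rfl⟩
      refine Subgroup.mem_centralizer_singleton_iff.mpr ?_
      show c.σ * g * y * (c.σ * g)⁻¹ * c.z2 = c.z2 * (c.σ * g * y * (c.σ * g)⁻¹)
      rw [← c.σ_z1, ← hg]
      calc c.σ * g * y * (c.σ * g)⁻¹ * (c.σ * (g * c.zz * g⁻¹) * c.σ⁻¹)
          = c.σ * g * (y * c.zz) * (c.σ * g)⁻¹ := by group
        _ = c.σ * g * (c.zz * y) * (c.σ * g)⁻¹ := by rw [c.zz_comm hy]
        _ = _ := by group)
  have hle := Subgroup.card_le_of_le (show (c.T.map (MulAut.conj (c.σ * g)).toMonoidHom).map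
    (MulAut.conj h).toMonoidHom ≤ c.D by rintro _ ⟨y, hy, rfl⟩; exact hh y hy)
  rw [Subgroup.card_map_of_injective (MulAut.conj h).injective,
    Subgroup.card_map_of_injective (MulAut.conj (c.σ * g)).injective, c.card_T, c.card_D] at hle
  omega

/-- `W × D₈`. -/
def R : Subgroup G :=
  (((centralizer ({zp} : Set P4)) ⊓ centralizer ({tp} : Set P4)).prod (centralizer ({zp} : Set P4))).map c.f

theorem mem_R {x : G} : x ∈ c.R ↔ ∃ a b : P4, InD8 a ∧ InW a ∧ InD8 b ∧ c.g a b = x := by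
  constructor
  · rintro ⟨⟨a, b⟩, h, rfl⟩
    exact ⟨a, b, mem_d8.mp h.1.1,
      (comm_tp a (mem_d8.mp h.1.1)).mp (Subgroup.mem_centralizer_singleton_iff.mp h.1.2), mem_d8.mp h.2, rfl⟩
  · rintro ⟨a, b, ha, hw, hb, rfl⟩
    exact ⟨(a, b), ⟨⟨mem_d8.mpr ha, Subgroup.mem_centralizer_singleton_iff.mpr ((comm_tp a ha).mpr hw)⟩,
      mem_d8.mpr hb⟩, rfl⟩

theorem R_le_D : c.R ≤ c.D := fun x hx => by
  obtain ⟨a, b, ha, -, hb, rfl⟩ := c.mem_R.mp hx
  exact c.g_mem_D ha hb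

theorem R_comm_t {x : G} (hx : x ∈ c.R) : x * c.g tp 1 = c.g tp 1 * x := by
  obtain ⟨a, b, ha, hw, -, rfl⟩ := c.mem_R.mp hx
  rw [c.g_mul, c.g_mul, mul_one, one_mul, (comm_tp a ha).mpr hw]

theorem R_commutator {x y : G} (hx : x ∈ c.R) (hy : y ∈ c.R) :
    x * y * x⁻¹ * y⁻¹ = 1 ∨ x * y * x⁻¹ * y⁻¹ = c.z2 := by
  obtain ⟨a, b, ha, hw, hb, rfl⟩ := c.mem_R.mp hx
  obtain ⟨a', b', ha', hw', hb', rfl⟩ := c.mem_R.mp hy
  have h : a * a' * a⁻¹ * a'⁻¹ = 1 := by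
    rcases hw with rfl | rfl | rfl | rfl <;> rcases hw' with rfl | rfl | rfl | rfl <;> decide
  rw [c.g_comm, h]
  rcases comm_mem b b' hb hb' with e | e <;> rw [e]
  · exact Or.inl c.g_one
  · exact Or.inr rfl

/-- The subgroup missing `(t, 1)` and `σ`. -/
def P3 : Subgroup G where
  carrier := {x | ∃ a b : P4, InD8 a ∧ InD8 b ∧
    ((x = c.g a b ∧ Equiv.Perm.sign a * Equiv.Perm.sign b = 1) ∨
      (x = c.g a b * c.σ ∧ Equiv.Perm.sign a * Equiv.Perm.sign b = -1))}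
  one_mem' := ⟨1, 1, d8_mem.1, d8_mem.1, Or.inl ⟨c.g_one.symm, by simp⟩⟩
  mul_mem' := by
    rintro x y ⟨a, b, ha, hb, h⟩ ⟨a', b', ha', hb', h'⟩
    have mm : ∀ {p q : P4}, InD8 p → InD8 q → InD8 (p * q) := fun {p q} hp hq =>
      mem_d8.mp (mul_mem (mem_d8.mpr hp) (mem_d8.mpr hq))
    rcases h with ⟨rfl, hs⟩ | ⟨rfl, hs⟩ <;> rcases h' with ⟨rfl, hs'⟩ | ⟨rfl, hs'⟩
    · refine ⟨a * a', b * b', mm ha ha', mm hb hb', Or.inl ⟨c.g_mul .., ?_⟩⟩
      rw [map_mul, map_mul, mul_mul_mul_comm, hs, hs', one_mul]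
    · refine ⟨a * a', b * b', mm ha ha', mm hb hb', Or.inr ⟨by rw [← mul_assoc, c.g_mul], ?_⟩⟩
      rw [map_mul, map_mul, mul_mul_mul_comm, hs, hs', one_mul]
    · refine ⟨a * b', b * a', mm ha hb', mm hb ha', Or.inr ⟨?_, ?_⟩⟩
      · rw [mul_assoc, c.σ_g, ← mul_assoc, c.g_mul]
      · rw [map_mul, map_mul, mul_mul_mul_comm, hs, mul_comm (Equiv.Perm.sign b'), hs', mul_one]
    · refine ⟨a * b', b * a', mm ha hb', mm hb ha', Or.inl ⟨?_, ?_⟩⟩
      · rw [mul_assoc, ← mul_assoc c.σ, c.σ_g, mul_assoc, c.sq, mul_one, c.g_mul]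
      · rw [map_mul, map_mul, mul_mul_mul_comm, hs, mul_comm (Equiv.Perm.sign b'), hs']
        decide
  inv_mem' := by
    rintro x ⟨a, b, ha, hb, h⟩
    have mi : ∀ {p : P4}, InD8 p → InD8 p⁻¹ := fun {p} hp => mem_d8.mp (inv_mem (mem_d8.mpr hp))
    rcases h with ⟨rfl, hs⟩ | ⟨rfl, hs⟩
    · exact ⟨a⁻¹, b⁻¹, mi ha, mi hb, Or.inl ⟨c.g_inv a b, by simpa using hs⟩⟩
    · refine ⟨b⁻¹, a⁻¹, mi hb, mi ha, Or.inr ⟨?_, by rw [Equiv.Perm.sign_inv, Equiv.Perm.sign_inv, mul_comm, hs]⟩⟩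
      rw [mul_inv_rev, c.g_inv, c.σ_inv, c.σ_g]

theorem P3_le_T : c.P3 ≤ c.T := by
  rintro x ⟨a, b, ha, hb, ⟨rfl, -⟩ | ⟨rfl, -⟩⟩
  · exact c.D_le_T (c.g_mem_D ha hb)
  · exact mul_mem (c.D_le_T (c.g_mem_D ha hb)) c.σ_mem_T

theorem index_half {P : Subgroup G} (hle : P ≤ c.T) {y : G} (hy : y ∈ c.T)
    (h : ∀ b ∈ c.T, Xor (b * y ∈ P) (b ∈ P)) : ∃ m, P.index = 2 * m ∧ Odd m := by
  haveI : Fact (Nat.Prime 2) := ⟨Nat.prime_two⟩
  refine ⟨c.T.index, ?_, Nat.odd_iff.mpr (Nat.two_dvd_ne_zero.mp c.S.not_dvd_index)⟩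
  have h1 : P.relIndex c.T = 2 :=
    Subgroup.index_eq_two_iff.mpr ⟨⟨y, hy⟩, fun b => h b b.2⟩
  rw [← Subgroup.relIndex_mul_index hle, h1]

theorem P3_half : ∃ m, c.P3.index = 2 * m ∧ Odd m := by
  refine c.index_half c.P3_le_T (c.D_le_T (c.g_mem_D d8_mem.2.2.1 d8_mem.1)) fun x hx => ?_
  have key : ∀ (b : G), b ∈ c.T → b ∉ c.P3 → b * c.g tp 1 ∈ c.P3 := by
    intro b hb hbn
    obtain ⟨p, q, hp, hq, rfl | rfl⟩ := c.mem_T hb
    · refine ⟨p * tp, q, mem_d8.mp (mul_mem (mem_d8.mpr hp) (mem_d8.mpr d8_mem.2.2.1)), hq,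
        Or.inl ⟨by rw [c.g_mul, mul_one], ?_⟩⟩
      rcases Int.units_eq_one_or (Equiv.Perm.sign p * Equiv.Perm.sign q) with e | e
      · exact absurd ⟨p, q, hp, hq, Or.inl ⟨rfl, e⟩⟩ hbn
      · rw [map_mul, signs.2.1, mul_right_comm, e]; decide
    · refine ⟨p, q * tp, hp, mem_d8.mp (mul_mem (mem_d8.mpr hq) (mem_d8.mpr d8_mem.2.2.1)),
        Or.inr ⟨by rw [mul_assoc, c.σ_g, ← mul_assoc, c.g_mul, mul_one], ?_⟩⟩
      rcases Int.units_eq_one_or (Equiv.Perm.sign p * Equiv.Perm.sign q) with e | e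
      · rw [map_mul, signs.2.1, ← mul_assoc, e, one_mul]
      · exact absurd ⟨p, q, hp, hq, Or.inr ⟨rfl, e⟩⟩ hbn
  have ht : c.g tp 1 ∉ c.P3 := by
    rintro ⟨p, q, -, -, ⟨e, hs⟩ | ⟨e, -⟩⟩
    · obtain ⟨rfl, rfl⟩ := c.g_inj e
      rw [signs.2.1, map_one, mul_one] at hs
      exact absurd hs (by decide)
    · have : c.σ = c.g (p⁻¹ * tp) q⁻¹ := by
        rw [← mul_one q⁻¹, ← c.g_mul, ← c.g_inv, e, inv_mul_cancel_left]
      exact c.ne_σ _ _ this.symm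
  by_cases hb : x ∈ c.P3
  · refine Or.inr ⟨hb, fun h' => ht ?_⟩
    simpa using mul_mem (inv_mem hb) h'
  · exact Or.inl ⟨key x hx hb, hb⟩

theorem P3_invol {x : G} (hx : x ∈ c.P3) (h2 : x * x = 1) (h1 : x ≠ 1) :
    c.IsU x ∨ c.IsZ x ∨ IsConj (c.g tp tp) x := by
  obtain ⟨a, b, ha, hb, ⟨rfl, hs⟩ | ⟨rfl, hs⟩⟩ := hx
  · obtain ⟨ha2, hb2⟩ := c.g_inj ((c.g_mul a b a b).symm.trans (h2.trans c.g_one.symm))
    obtain ⟨m, hm⟩ := class_rep a ha ha2
    obtain ⟨k, hk⟩ := class_rep b hb hb2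
    have hc := (c.g_isConj a b m k).symm
    have sa : Equiv.Perm.sign (m * a * m⁻¹) = Equiv.Perm.sign a := by
      rw [map_mul, map_mul, Equiv.Perm.sign_inv, mul_right_comm, Int.units_mul_self, one_mul]
    have sb : Equiv.Perm.sign (k * b * k⁻¹) = Equiv.Perm.sign b := by
      rw [map_mul, map_mul, Equiv.Perm.sign_inv, mul_right_comm, Int.units_mul_self, one_mul]
    rw [← sa, ← sb] at hs
    rcases hm with e | e | e <;> rcases hk with e' | e' | e' <;> rw [e, e'] at hc hs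
    · exfalso
      rw [c.g_one] at hc
      exact h1 (isConj_one_right.mp hc)
    · exact Or.inl (((c.g_U (a := zp) (Or.inr (Or.inl rfl)) basics.1).2).trans hc)
    · rw [map_one, signs.2.1] at hs; exact absurd hs (by decide)
    · exact Or.inl (IsConj.trans (show IsConj c.z1 (c.g zp 1) from IsConj.refl _) hc)
    · exact Or.inr (Or.inl (IsConj.trans (show IsConj c.zz (c.g zp zp) from IsConj.refl _) hc))
    · rw [signs.1, signs.2.1] at hs; exact absurd hs (by decide)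
    · rw [map_one, signs.2.1] at hs; exact absurd hs (by decide)
    · rw [signs.1, signs.2.1] at hs; exact absurd hs (by decide)
    · exact Or.inr (Or.inr hc)
  · exfalso
    rw [show c.g a b * c.σ * (c.g a b * c.σ) = c.g a b * (c.σ * c.g a b) * c.σ by group, c.σ_g, ← mul_assoc,
      c.g_mul, mul_assoc, c.sq, mul_one] at h2
    obtain ⟨hab, -⟩ := c.g_inj (h2.trans c.g_one.symm)
    rw [← map_mul, hab, map_one] at hs
    exact absurd hs (by decide)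

theorem tt_gens : c.g tp 1 ∈ c.T ∧ c.g zp 1 ∈ c.T :=
  ⟨c.D_le_T (c.g_mem_D d8_mem.2.2.1 d8_mem.1), c.D_le_T c.z1_mem⟩

/-- Some 2-group in `C(t)` properly contains `C_T(t)` and normalises it. -/
theorem exists_bigger [IsSimpleGroup G] (h4 : 4 ≤ Nat.card G) :
    ∃ B : Subgroup G, IsPGroup 2 ↥B ∧ c.R < B ∧ B ≤ centralizer ({c.g tp 1} : Set G) ∧
      B ≤ normalizer (c.R : Set G) := by
  haveI : Fact (Nat.Prime 2) := ⟨Nat.prime_two⟩
  set C := centralizer ({c.g tp 1} : Set G)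
  have hRC : c.R ≤ C := fun x hx => Subgroup.mem_centralizer_singleton_iff.mpr (c.R_comm_t hx)
  have hRp : IsPGroup 2 ↥c.R := c.isPGroup_D.to_le c.R_le_D
  by_contra hcon
  push Not at hcon
  have hmax : ∀ Q : Subgroup G, IsPGroup 2 ↥Q → c.R ≤ Q → Q ≤ C → Q = c.R := by
    intro Q hQ hle hQC
    by_contra hne
    haveI : Group.IsNilpotent ↥Q := hQ.isNilpotent
    have hlt : c.R.subgroupOf Q < ⊤ := lt_top_iff_ne_top.mpr fun e =>
      hne (le_antisymm (Subgroup.subgroupOf_eq_top.mp e) hle)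
    have h1 := Group.normalizerCondition_of_isNilpotent _ hlt
    have hN : c.R < (normalizer ((c.R.subgroupOf Q : Subgroup Q) : Set Q)).map Q.subtype := by
      have := Subgroup.map_subtype_lt_map_subtype.mpr h1
      rwa [Subgroup.map_subgroupOf_eq_of_le hle] at this
    refine hcon _ ((hQ.to_subgroup _).map _) hN ((Subgroup.map_subtype_le _).trans hQC) ?_
    rintro _ ⟨y, hy, rfl⟩
    refine Subgroup.mem_normalizer_iff.mpr fun x => ?_
    constructor <;> intro hx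
    · exact (Subgroup.mem_normalizer_iff.mp hy ⟨x, hle hx⟩).mp hx
    · have hxQ : x ∈ Q := by
        have := mul_mem (mul_mem (inv_mem y.2) (hle hx)) y.2
        rwa [show (y : G)⁻¹ * (Q.subtype y * x * (Q.subtype y)⁻¹) * y = x by
          rw [Subgroup.coe_subtype]; group] at this
      exact (Subgroup.mem_normalizer_iff.mp hy ⟨x, hxQ⟩).mpr hx
  have big : ∀ {B : Subgroup G}, IsPGroup 2 ↥B → 32 < Nat.card B → ¬ B ≤ C := by
    intro B hB hcard hBC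
    obtain ⟨h, -, hh⟩ := exists_sylow_conj hB hBC hRp hRC hmax
    have hle := Subgroup.card_le_of_le (show B.map (MulAut.conj h).toMonoidHom ≤ c.R by
      rintro _ ⟨y, hy, rfl⟩; exact hh y hy)
    rw [Subgroup.card_map_of_injective (MulAut.conj h).injective] at hle
    have hR : Nat.card c.R * 2 ≤ Nat.card c.D := by
      have hlt : c.R < c.D := lt_of_le_of_ne c.R_le_D fun e => by
        obtain ⟨a, b, -, hw, -, e'⟩ := c.mem_R.mp (e ▸ c.g_mem_D d8_mem.2.2.2.1 d8_mem.1)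
        obtain ⟨rfl, -⟩ := c.g_inj e'
        exact absurd hw (by decide)
      have h1 := Subgroup.card_dvd_of_le c.R_le_D
      have h2 : Nat.card c.R < Nat.card c.D := lt_of_le_of_ne (Subgroup.card_le_of_le c.R_le_D)
        fun e => hlt.ne (Subgroup.eq_of_le_of_card_ge c.R_le_D e.ge)
      obtain ⟨q, hq⟩ := h1
      rw [hq] at h2 ⊢
      have : 2 ≤ q := by by_contra; interval_cases q <;> omega
      exact Nat.mul_le_mul_left _ this
    rw [c.card_D] at hR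
    omega
  obtain ⟨m, hm, hodd⟩ := c.P3_half
  obtain ⟨g, hg⟩ : ∃ g : G, g⁻¹ * c.g tp 1 * g ∈ c.P3 := by
    by_contra h
    push Not at h
    obtain ⟨K, hK, hK2⟩ := CfsgLib.RankTwoSimple.exists_index_two c.P3 hm hodd
      (by rw [c.g_mul, basics.2.2.2.2.1, one_mul, c.g_one]) h
    exact CfsgLib.RankTwoSimple.not_index_two h4 hK hK2
  have ht1 : c.g tp 1 ≠ 1 := c.g_ne_one (Or.inl basics.2.1)
  have fromC : ∀ {B : Subgroup G} {x : G}, IsPGroup 2 ↥B → 32 < Nat.card B → (∀ y ∈ B, y * x = x * y) →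
      IsConj x (c.g tp 1) → False := by
    intro B x hB hcard hcen hc
    obtain ⟨k, hk⟩ := isConj_iff.mp hc
    refine big (B := B.map (MulAut.conj k).toMonoidHom) (hB.map _)
      (by rw [Subgroup.card_map_of_injective (MulAut.conj k).injective]; exact hcard) ?_
    rintro _ ⟨y, hy, rfl⟩
    refine Subgroup.mem_centralizer_singleton_iff.mpr ?_
    show k * y * k⁻¹ * c.g tp 1 = c.g tp 1 * (k * y * k⁻¹)
    rw [← hk]
    calc k * y * k⁻¹ * (k * x * k⁻¹) = k * (y * x) * k⁻¹ := by group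
      _ = k * (x * y) * k⁻¹ := by rw [hcen y hy]
      _ = _ := by group
  have hconj : IsConj (g⁻¹ * c.g tp 1 * g) (c.g tp 1) :=
    isConj_iff.mpr ⟨g, by group⟩
  rcases c.P3_invol hg
    (by rw [show g⁻¹ * c.g tp 1 * g * (g⁻¹ * c.g tp 1 * g) = g⁻¹ * (c.g tp 1 * c.g tp 1) * g by group, c.g_mul,
      basics.2.2.2.2.1, one_mul, c.g_one, mul_one, inv_mul_cancel])
    (fun e => ht1 (by
      have := congrArg (fun y => g * y * g⁻¹) e
      simpa [mul_assoc] using this)) with h | h | h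
  · exact fromC c.isPGroup_D (by rw [c.card_D]; norm_num) (fun y hy => c.z1_comm hy) (h.trans hconj)
  · exact fromC c.isPGroup_T (by rw [c.card_T]; norm_num) (fun y hy => c.zz_comm hy) (h.trans hconj)
  · obtain ⟨k, hk⟩ := isConj_iff.mp (h.trans hconj)
    let B : Subgroup G := c.T ⊓ centralizer ({c.g tp tp} : Set G)
    obtain ⟨h', -, hh⟩ := exists_sylow_conj (B := B.map (MulAut.conj k).toMonoidHom)
      ((c.isPGroup_T.to_le inf_le_left).map _) (by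
        rintro _ ⟨y, hy, rfl⟩
        refine Subgroup.mem_centralizer_singleton_iff.mpr ?_
        show k * y * k⁻¹ * c.g tp 1 = c.g tp 1 * (k * y * k⁻¹)
        rw [← hk]
        calc k * y * k⁻¹ * (k * c.g tp tp * k⁻¹) = k * (y * c.g tp tp) * k⁻¹ := by group
          _ = k * (c.g tp tp * y) * k⁻¹ := by rw [Subgroup.mem_centralizer_singleton_iff.mp hy.2]
          _ = _ := by group) hRp hRC hmax
    set w := h' * k with hw
    have inR : ∀ y ∈ B, w * y * w⁻¹ ∈ c.R := fun y hy => by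
      have := hh (k * y * k⁻¹) ⟨y, hy, rfl⟩
      rwa [show h' * (k * y * k⁻¹) * h'⁻¹ = w * y * w⁻¹ by rw [hw]; group] at this
    have m1 : c.g tp 1 ∈ B := ⟨c.tt_gens.1, Subgroup.mem_centralizer_singleton_iff.mpr (by
      rw [c.g_mul, c.g_mul, one_mul, mul_one])⟩
    have m2 : c.g zp 1 ∈ B := ⟨c.tt_gens.2, Subgroup.mem_centralizer_singleton_iff.mpr (by
      rw [c.g_mul, c.g_mul, one_mul, mul_one, d8_mem.2.2.1])⟩
    have m3 : c.σ ∈ B := ⟨c.σ_mem_T, Subgroup.mem_centralizer_singleton_iff.mpr (c.σ_g tp tp)⟩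
    have k1 : c.g tp 1 * c.σ * (c.g tp 1)⁻¹ * c.σ⁻¹ = c.g tp tp := by
      rw [mul_assoc (c.g tp 1 * c.σ), mul_assoc (c.g tp 1), c.g_inv, ← mul_assoc c.σ, c.σ_g, mul_inv_cancel_right,
        c.g_mul]
      norm_num [inv_eq_of_mul_eq_one_right basics.2.2.2.2.1]
    have k2 : c.g zp 1 * c.σ * (c.g zp 1)⁻¹ * c.σ⁻¹ = c.g zp zp := by
      rw [mul_assoc (c.g zp 1 * c.σ), mul_assoc (c.g zp 1), c.g_inv, ← mul_assoc c.σ, c.σ_g, mul_inv_cancel_right,
        c.g_mul]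
      norm_num [inv_eq_of_mul_eq_one_right basics.2.2.2.1]
    have e1 := c.R_commutator (inR _ m1) (inR _ m3)
    have e2 := c.R_commutator (inR _ m2) (inR _ m3)
    rw [conj_comm, k1] at e1
    rw [conj_comm, k2] at e2
    rcases e1 with e1 | e1
    · exact c.g_ne_one (Or.inl basics.2.1) (conj_eq_one_iff.mp e1)
    rcases e2 with e2 | e2
    · exact c.g_ne_one (Or.inl basics.1) (conj_eq_one_iff.mp e2)
    have := e1.trans e2.symm
    rw [mul_left_inj, mul_right_inj] at this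
    exact basics.2.2.2.2.2.2.1 (c.g_inj this).1

end Cfg

end CfsgLib.QTWreath
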