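import Mathlib.GroupTheory.Perm.Finite
import Cfsg.Prelude.Def_Quasithin
import Cfsg.Prelude.Def_QuasithinSetup
import Cfsg.Agent.Lib.QTWreath.CaseOne
import Cfsg.Agent.Lib.QTWreath.CaseTwo
import Cfsg.Agent.Lib.QTWreath.Final

/-!
No simple quasithin group of even characteristic has `S₄ ≀ 2` over a Sylow 2-subgroup.

Blueprint: `blueprint/S1829.md`.
-/

set_option autoImplicit false
set_option linter.unusedSectionVars false
set_option linter.style.haveILetI false

universe u

namespace CfsgLib.QTWreath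

open Cfsg Subgroup Equiv
open scoped Pointwise

/-- The swap of the two blocks. -/
def blockSwap : Perm (Fin 4 ⊕ Fin 4) := Equiv.sumComm (Fin 4) (Fin 4)

theorem blockSwap_facts : blockSwap * blockSwap = 1 ∧
    ∀ a b : P4, blockSwap * Perm.sumCongrHom (Fin 4) (Fin 4) (a, b) * blockSwap⁻¹ =
      Perm.sumCongrHom (Fin 4) (Fin 4) (b, a) := by
  refine ⟨Equiv.ext fun x => by rcases x with x | x <;> rfl, fun a b => Equiv.ext fun x => ?_⟩
  rcases x with x | x <;> rfl

theorem smul_range_inl (p : P4 × P4) :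
    Perm.sumCongrHom (Fin 4) (Fin 4) p • Set.range (Sum.inl : Fin 4 → Fin 4 ⊕ Fin 4) = Set.range Sum.inl := by
  rw [← Set.image_smul, ← Set.range_comp]
  exact (p.1.surjective.range_comp (Sum.inl : Fin 4 → Fin 4 ⊕ Fin 4)).symm ▸ rfl

theorem smul_range_inr (p : P4 × P4) :
    Perm.sumCongrHom (Fin 4) (Fin 4) p • Set.range (Sum.inr : Fin 4 → Fin 4 ⊕ Fin 4) = Set.range Sum.inr := by
  rw [← Set.image_smul, ← Set.range_comp]
  exact (p.2.surjective.range_comp (Sum.inr : Fin 4 → Fin 4 ⊕ Fin 4)).symm ▸ rfl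

theorem sumCongr_mem (p : P4 × P4) : Perm.sumCongrHom (Fin 4) (Fin 4) p ∈ blockStabilizerS4wr2 := by
  rw [blockStabilizerS4wr2, MulAction.mem_stabilizer_iff, Set.smul_set_insert, Set.smul_set_singleton,
    smul_range_inl, smul_range_inr]

theorem blockSwap_mem : blockSwap ∈ blockStabilizerS4wr2 := by
  rw [blockStabilizerS4wr2, MulAction.mem_stabilizer_iff, Set.smul_set_insert, Set.smul_set_singleton,
    ← Set.image_smul, ← Set.image_smul, ← Set.range_comp, ← Set.range_comp, Set.pair_comm]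
  rfl

theorem blockSwap_notMem (p : P4 × P4) : Perm.sumCongrHom (Fin 4) (Fin 4) p ≠ blockSwap := fun h => by
  have := congrArg (fun e : Perm (Fin 4 ⊕ Fin 4) => e (Sum.inl 0)) h
  exact Sum.inl_ne_inr this

theorem card_block : Nat.card ↥blockStabilizerS4wr2 = 1152 := by
  let F : (P4 × P4) × Bool → ↥blockStabilizerS4wr2 := fun q =>
    ⟨(if q.2 then blockSwap else 1) * Perm.sumCongrHom (Fin 4) (Fin 4) q.1, mul_mem
      (by split
          · exact blockSwap_mem
          · exact one_mem _) (sumCongr_mem q.1)⟩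
  have hF : Function.Bijective F := by
    constructor
    · rintro ⟨p, s⟩ ⟨p', s'⟩ h
      have e := congrArg Subtype.val h
      have key : ∀ p p' : P4 × P4, blockSwap * Perm.sumCongrHom (Fin 4) (Fin 4) p ≠
          Perm.sumCongrHom (Fin 4) (Fin 4) p' := fun p p' k => blockSwap_notMem (p' * p⁻¹) (by
        rw [map_mul, map_inv, ← k, mul_inv_cancel_right])
      cases s <;> cases s'
      · simp only [F, Bool.false_eq_true, if_false, one_mul] at e
        rw [Perm.sumCongrHom_injective e]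
      · simp only [F, Bool.false_eq_true, if_false, if_true, one_mul] at e
        exact absurd e.symm (key _ _)
      · simp only [F, Bool.false_eq_true, if_false, if_true, one_mul] at e
        exact absurd e (key _ _)
      · simp only [F, if_true, mul_left_cancel_iff] at e
        rw [Perm.sumCongrHom_injective e]
    · rintro ⟨s, hs⟩
      have h : s • ({Set.range Sum.inl, Set.range Sum.inr} : Set (Set (Fin 4 ⊕ Fin 4))) = _ :=
        MulAction.mem_stabilizer_iff.mp hs
      have hA : s • Set.range (Sum.inl : Fin 4 → Fin 4 ⊕ Fin 4) ∈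
          ({Set.range Sum.inl, Set.range Sum.inr} : Set (Set (Fin 4 ⊕ Fin 4))) :=
        h ▸ Set.smul_mem_smul_set (Set.mem_insert _ _)
      rcases hA with hA | hA
      · obtain ⟨p, hp⟩ := Perm.mem_sumCongrHom_range_of_perm_mapsTo_inl (σ := s)
          (fun x hx => hA ▸ ⟨x, hx, rfl⟩)
        exact ⟨(p, false), Subtype.ext (by simp [F, hp])⟩
      · obtain ⟨p, hp⟩ := Perm.mem_sumCongrHom_range_of_perm_mapsTo_inl (σ := blockSwap * s)
          (fun x hx => by
            obtain ⟨y, hy⟩ : s x ∈ Set.range Sum.inr := (Set.mem_singleton_iff.mp hA) ▸ ⟨x, hx, rfl⟩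
            exact ⟨y, by rw [Perm.mul_apply, ← hy]; rfl⟩)
        exact ⟨(p, true), Subtype.ext (by simp [F, hp, ← mul_assoc, blockSwap_facts.1])⟩
  rw [← Nat.card_congr (Equiv.ofBijective F hF), Nat.card_prod, Nat.card_prod, Nat.card_perm, Nat.card_fin,
    Nat.card_eq_fintype_card (α := Bool), Fintype.card_bool]
  rfl

variable {G : Type u} [Group G] [Finite G]

theorem sylow_bound {T : Sylow 2 G} {M : Subgroup G} (hTM : (T : Subgroup G) ≤ M)
    (e : ↥M ≃* ↥blockStabilizerS4wr2) {B : Subgroup G} (hB : IsPGroup 2 ↥B) : Nat.card B ≤ 128 := by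
  haveI : Fact (Nat.Prime 2) := ⟨Nat.prime_two⟩
  obtain ⟨k, hk⟩ := IsPGroup.iff_card.mp hB
  have h1 : 2 ^ k ∣ Nat.card (T : Subgroup G) := T.pow_dvd_card_of_pow_dvd_card (hk ▸ B.card_subgroup_dvd_card)
  have h2 := h1.trans (Subgroup.card_dvd_of_le hTM)
  rw [Nat.card_congr e.toEquiv, card_block] at h2
  have h3 : k ≤ 7 := by
    by_contra hk'
    exact absurd ((pow_dvd_pow 2 (show 8 ≤ k by omega)).trans h2) (by decide)
  rw [hk]
  exact Nat.pow_le_pow_right (by norm_num) h3

/-- The configuration from an isomorphism. -/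
noncomputable def mkCfg {T : Sylow 2 G} {M : Subgroup G} (hTM : (T : Subgroup G) ≤ M)
    (e : ↥M ≃* ↥blockStabilizerS4wr2) : Cfg G where
  f := (M.subtype.comp e.symm.toMonoidHom).comp ((Perm.sumCongrHom (Fin 4) (Fin 4)).codRestrict _ sumCongr_mem)
  inj := fun a b h => Perm.sumCongrHom_injective (congrArg Subtype.val (e.symm.injective (Subtype.ext h)))
  σ := (e.symm ⟨blockSwap, blockSwap_mem⟩ : ↥M)
  sq := by
    rw [← Subgroup.coe_mul, ← map_mul]
    simp [MulMemClass.mk_mul_mk, blockSwap_facts.1]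
  swp := fun a b => by
    show ((e.symm ⟨blockSwap, blockSwap_mem⟩ : ↥M) : G) *
      ((e.symm ⟨Perm.sumCongrHom (Fin 4) (Fin 4) (a, b), sumCongr_mem _⟩ : ↥M) : G) *
      ((e.symm ⟨blockSwap, blockSwap_mem⟩ : ↥M) : G)⁻¹ =
      ((e.symm ⟨Perm.sumCongrHom (Fin 4) (Fin 4) (b, a), sumCongr_mem _⟩ : ↥M) : G)
    rw [← Subgroup.coe_inv, ← Subgroup.coe_mul, ← Subgroup.coe_mul, ← map_inv, ← map_mul, ← map_mul]
    exact congrArg Subtype.val (congrArg e.symm (Subtype.ext (blockSwap_facts.2 a b)))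
  notMem := fun x h => blockSwap_notMem x (congrArg Subtype.val (e.symm.injective (Subtype.ext h)))
  le128 := fun B hB => sylow_bound hTM e hB

theorem main [IsSimpleGroup G] (hQ : Cfsg.IsQTKE G) {T : Sylow 2 G} {M : Subgroup G}
    (hTM : (T : Subgroup G) ≤ M) (hW : Nonempty (↥M ≃* ↥blockStabilizerS4wr2)) : False := by
  obtain ⟨e⟩ := hW
  obtain ⟨hQT, -, hE⟩ := hQ
  let c := mkCfg hTM e
  have h4 : 4 ≤ Nat.card G := by
    have h := M.card_le_card_group
    rw [Nat.card_congr e.toEquiv, card_block] at h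
    omega
  obtain ⟨d, hdR, -, hz2, hI | hII⟩ := c.exists_case h4
  · exact c.final hE h4 hI.2.2.2.2.1 hI.2.2.2.2.2 (c.tt_Z hE hQT hz2 hI)
  · exact c.no_caseII hE hdR hz2 hII

end CfsgLib.QTWreath
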