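import Mathlib.GroupTheory.Perm.Basic
import Mathlib.GroupTheory.SpecificGroups.Dihedral
import Mathlib.Data.Fintype.Perm
import Mathlib.GroupTheory.Perm.Sign

/-!
The symmetric group of degree four with its dihedral subgroup `C(z)`, `z = (02)(13)`.

Blueprint: `blueprint/S1829.md`.
-/

set_option autoImplicit false

namespace CfsgLib.QTWreath

open Equiv

/-- The symmetric group of degree four. -/
abbrev P4 := Perm (Fin 4)

/-- The central involution of the dihedral group. -/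
def zp : P4 := swap 0 2 * swap 1 3

/-- The transposition. -/
def tp : P4 := swap 0 2

/-- A double transposition. -/
def vp : P4 := swap 0 1 * swap 2 3

/-- A three cycle, normalising the four group of double transpositions. -/
def cp : P4 := swap 1 2 * swap 2 3

/-- Membership of the dihedral group. -/
abbrev InD8 (a : P4) : Prop := a * zp = zp * a

/-- Membership of the normal four group. -/
abbrev InV (a : P4) : Prop := a = 1 ∨ a = zp ∨ a = vp ∨ a = vp * zp

/-- Membership of the other four group. -/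
abbrev InW (a : P4) : Prop := a = 1 ∨ a = zp ∨ a = tp ∨ a = tp * zp

theorem d8_mem : InD8 1 ∧ InD8 zp ∧ InD8 tp ∧ InD8 vp ∧ InD8 (tp * zp) ∧ InD8 (vp * zp) := by decide

theorem basics : zp ≠ 1 ∧ tp ≠ 1 ∧ vp ≠ 1 ∧ zp * zp = 1 ∧ tp * tp = 1 ∧ vp * vp = 1 ∧ tp ≠ zp ∧ vp ≠ zp ∧
    tp * zp ≠ 1 ∧ tp * zp ≠ zp := by decide

theorem sq_eq : (tp * vp) * (tp * vp) = zp ∧ vp * tp * vp⁻¹ = tp * zp ∧ tp * vp * tp⁻¹ = vp * zp := by decide

theorem comm_mem : ∀ a b : P4, InD8 a → InD8 b → a * b * a⁻¹ * b⁻¹ = 1 ∨ a * b * a⁻¹ * b⁻¹ = zp := by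
  decide +kernel

theorem noncentral : ∀ a : P4, InD8 a → a = 1 ∨ a = zp ∨ ∃ b : P4, InD8 b ∧ a * b * a⁻¹ * b⁻¹ = zp := by
  decide +kernel

theorem central : ∀ a : P4, InD8 a → a * tp = tp * a → a * vp = vp * a → a = 1 ∨ a = zp := by decide +kernel

theorem gen : ∀ a : P4, InD8 a → a = 1 ∨ a = tp ∨ a = vp ∨ a = tp * vp ∨ a = vp * tp ∨ a = tp * vp * tp ∨
    a = vp * tp * vp ∨ a = tp * vp * tp * vp := by decide +kernel

theorem invol : ∀ a : P4, InD8 a → a * a = 1 → InV a ∨ InW a := by decide +kernel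

theorem comm_tp : ∀ a : P4, InD8 a → (a * tp = tp * a ↔ InW a) := by decide +kernel

theorem comm_vp : ∀ a : P4, InD8 a → (a * vp = vp * a ↔ InV a) := by decide +kernel

theorem order_four : ∀ a : P4, InD8 a → ¬ InV a → ¬ InW a → a * a = zp := by decide +kernel

theorem abelian_pair : ∀ a b : P4, InD8 a → InD8 b → a * b = b * a →
    a = 1 ∨ a = zp ∨ b = 1 ∨ b = zp ∨ b = a ∨ b = a * zp := by decide +kernel

theorem class_rep : ∀ a : P4, InD8 a → a * a = 1 →
    ∃ m : P4, m * a * m⁻¹ = 1 ∨ m * a * m⁻¹ = zp ∨ m * a * m⁻¹ = tp := by decide +kernel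

theorem cp_facts : cp * cp * cp = 1 ∧ cp ≠ 1 ∧ (∀ a : P4, InV a → InV (cp * a * cp⁻¹)) ∧
    cp * zp * cp⁻¹ ≠ zp ∧ cp * cp * zp * (cp * cp)⁻¹ ≠ zp := by decide +kernel

theorem swap_conj : ∀ a b : Fin 4, a ≠ b → ∃ m : P4, m * tp * m⁻¹ = swap a b := by decide +kernel

theorem swaps_noncomm : swap (0 : Fin 4) 2 * swap 0 1 ≠ swap (0 : Fin 4) 1 * swap 0 2 := by decide

theorem card_d8 : Nat.card {a : P4 // InD8 a} = 8 := by
  rw [Nat.card_eq_fintype_card]
  decide +kernel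

end CfsgLib.QTWreath
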