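import Mathlib.GroupTheory.Sylow
import Cfsg.Agent.Lib.QTWreath.Perm4

/-!
A subgroup `(S₄ × S₄)⟨σ⟩` holding a Sylow 2-subgroup `T = (D₈ × D₈)⟨σ⟩`.

Blueprint: `blueprint/S1829.md`.
-/

set_option autoImplicit false
set_option linter.unusedSectionVars false
set_option linter.style.haveILetI false

universe u

namespace CfsgLib.QTWreath

open Subgroup

variable (G : Type u) [Group G]

/-- `S₄ ≀ 2` inside `G`, with a 2-part as large as that of `G`. -/
structure Cfg where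
  f : P4 × P4 →* G
  inj : Function.Injective f
  σ : G
  sq : σ * σ = 1
  swp : ∀ a b : P4, σ * f (a, b) * σ⁻¹ = f (b, a)
  notMem : ∀ x, f x ≠ σ
  le128 : ∀ B : Subgroup G, IsPGroup 2 ↥B → Nat.card B ≤ 128

variable {G}

namespace Cfg

variable (c : Cfg G)

/-- The element `(a, b)`. -/
def g (a b : P4) : G := c.f (a, b)

theorem g_mul (a b a' b' : P4) : c.g a b * c.g a' b' = c.g (a * a') (b * b') :=
  (map_mul c.f (a, b) (a', b')).symm

theorem g_one : c.g 1 1 = 1 := map_one c.f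

theorem g_inv (a b : P4) : (c.g a b)⁻¹ = c.g a⁻¹ b⁻¹ := (map_inv c.f (a, b)).symm

theorem g_conj (a b a' b' : P4) : c.g a b * c.g a' b' * (c.g a b)⁻¹ = c.g (a * a' * a⁻¹) (b * b' * b⁻¹) := by
  rw [c.g_inv, c.g_mul, c.g_mul]

theorem g_comm (a b a' b' : P4) : c.g a b * c.g a' b' * (c.g a b)⁻¹ * (c.g a' b')⁻¹ =
    c.g (a * a' * a⁻¹ * a'⁻¹) (b * b' * b⁻¹ * b'⁻¹) := by
  rw [c.g_conj, c.g_inv, c.g_mul]

theorem g_inj {a b a' b' : P4} (h : c.g a b = c.g a' b') : a = a' ∧ b = b' := by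
  have := c.inj h
  exact ⟨congrArg Prod.fst this, congrArg Prod.snd this⟩

theorem g_commute {a b a' b' : P4} (h : c.g a b * c.g a' b' = c.g a' b' * c.g a b) :
    a * a' = a' * a ∧ b * b' = b' * b := by
  rw [c.g_mul, c.g_mul] at h
  exact c.g_inj h

theorem σ_inv : c.σ⁻¹ = c.σ := inv_eq_of_mul_eq_one_right c.sq

theorem σ_g (a b : P4) : c.σ * c.g a b = c.g b a * c.σ := mul_inv_eq_iff_eq_mul.mp (c.swp a b)

theorem σ_conj (a b : P4) : c.σ * c.g a b * c.σ⁻¹ = c.g b a := c.swp a b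

theorem ne_σ (a b : P4) : c.g a b ≠ c.σ := c.notMem (a, b)

/-- `z₁`. -/
def z1 : G := c.g zp 1

/-- `z₂`. -/
def z2 : G := c.g 1 zp

/-- `z = z₁ z₂`. -/
def zz : G := c.g zp zp

theorem z1_mul_z2 : c.z1 * c.z2 = c.zz := by rw [z1, z2, zz, c.g_mul, mul_one, one_mul]

/-- `D = D₈ × D₈`. -/
def D : Subgroup G :=
  ((centralizer ({zp} : Set P4)).prod (centralizer ({zp} : Set P4))).map c.f

theorem mem_d8 {a : P4} : a ∈ centralizer ({zp} : Set P4) ↔ InD8 a :=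
  Subgroup.mem_centralizer_singleton_iff

theorem mem_D {x : G} : x ∈ c.D ↔ ∃ a b : P4, InD8 a ∧ InD8 b ∧ c.g a b = x := by
  constructor
  · rintro ⟨⟨a, b⟩, h, rfl⟩
    exact ⟨a, b, mem_d8.mp h.1, mem_d8.mp h.2, rfl⟩
  · rintro ⟨a, b, ha, hb, rfl⟩
    exact ⟨(a, b), ⟨mem_d8.mpr ha, mem_d8.mpr hb⟩, rfl⟩

theorem g_mem_D {a b : P4} (ha : InD8 a) (hb : InD8 b) : c.g a b ∈ c.D := c.mem_D.mpr ⟨a, b, ha, hb, rfl⟩

theorem of_g_mem_D {a b : P4} (h : c.g a b ∈ c.D) : InD8 a ∧ InD8 b := by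
  obtain ⟨a', b', ha, hb, e⟩ := c.mem_D.mp h
  obtain ⟨rfl, rfl⟩ := c.g_inj e
  exact ⟨ha, hb⟩

theorem card_D : Nat.card c.D = 64 := by
  rw [D, Subgroup.card_map_of_injective c.inj, Nat.card_congr
    ((centralizer ({zp} : Set P4)).prodEquiv (centralizer ({zp} : Set P4))).toEquiv, Nat.card_prod,
    show Nat.card (centralizer ({zp} : Set P4)) = 8 from
      (Nat.card_congr (Equiv.subtypeEquivRight fun a => mem_d8)).trans card_d8]

theorem σ_conj_mem {x : G} (hx : x ∈ c.D) : c.σ * x * c.σ⁻¹ ∈ c.D := by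
  obtain ⟨a, b, ha, hb, rfl⟩ := c.mem_D.mp hx
  rw [c.σ_conj]
  exact c.g_mem_D hb ha

theorem σ_notMem : c.σ ∉ c.D := fun h => by
  obtain ⟨a, b, -, -, e⟩ := c.mem_D.mp h
  exact c.ne_σ a b e

/-- `T = D⟨σ⟩`. -/
def T : Subgroup G where
  carrier := {x | x ∈ c.D ∨ x * c.σ ∈ c.D}
  one_mem' := Or.inl (one_mem _)
  mul_mem' := by
    rintro x y (hx | hx) (hy | hy)
    · exact Or.inl (mul_mem hx hy)
    · right
      rw [mul_assoc]
      exact mul_mem hx hy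
    · right
      have := mul_mem hx (c.σ_conj_mem hy)
      rwa [c.σ_inv, show x * c.σ * (c.σ * y * c.σ) = x * (c.σ * c.σ) * y * c.σ by group, c.sq, mul_one] at this
    · left
      have := mul_mem hx (c.σ_conj_mem hy)
      rwa [c.σ_inv, show x * c.σ * (c.σ * (y * c.σ) * c.σ) = x * (c.σ * c.σ) * y * (c.σ * c.σ) by group,
        c.sq, mul_one, mul_one] at this
  inv_mem' := by
    rintro x (hx | hx)
    · exact Or.inl (inv_mem hx)
    · right
      have := c.σ_conj_mem (inv_mem hx)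
      rwa [show c.σ * (x * c.σ)⁻¹ * c.σ⁻¹ = c.σ * c.σ⁻¹ * x⁻¹ * c.σ⁻¹ by group, mul_inv_cancel, one_mul,
        c.σ_inv] at this

theorem D_le_T : c.D ≤ c.T := fun _ hx => Or.inl hx

theorem σ_mem_T : c.σ ∈ c.T := Or.inr (by rw [c.sq]; exact one_mem _)

theorem mem_T {x : G} (hx : x ∈ c.T) :
    ∃ a b : P4, InD8 a ∧ InD8 b ∧ (x = c.g a b ∨ x = c.g a b * c.σ) := by
  rcases hx with h | h
  · obtain ⟨a, b, ha, hb, e⟩ := c.mem_D.mp h
    exact ⟨a, b, ha, hb, Or.inl e.symm⟩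
  · obtain ⟨a, b, ha, hb, e⟩ := c.mem_D.mp h
    exact ⟨a, b, ha, hb, Or.inr (by rw [e, mul_assoc, c.sq, mul_one])⟩

theorem card_T : Nat.card c.T = 128 := by
  have h : (c.D.subgroupOf c.T).index = 2 := by
    rw [Subgroup.index_eq_two_iff]
    refine ⟨⟨c.σ, c.σ_mem_T⟩, fun b => ?_⟩
    simp only [Subgroup.mem_subgroupOf, Subgroup.coe_mul]
    rcases b.2 with h | h
    · refine Or.inr ⟨h, fun h' => c.σ_notMem ?_⟩
      simpa using mul_mem (inv_mem h) h'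
    · refine Or.inl ⟨h, fun h' => c.σ_notMem ?_⟩
      simpa using mul_mem (inv_mem h') h
  have h2 := (c.D.subgroupOf c.T).card_mul_index
  rw [h, Nat.card_congr (Subgroup.subgroupOfEquivOfLe c.D_le_T).toEquiv, c.card_D] at h2
  omega

theorem isPGroup_T : IsPGroup 2 ↥c.T := IsPGroup.of_card (n := 7) (by rw [c.card_T]; norm_num)

theorem isPGroup_D : IsPGroup 2 ↥c.D := c.isPGroup_T.to_le c.D_le_T

theorem T_le_normalizer : c.T ≤ normalizer (c.D : Set G) := by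
  have hσ : c.σ ∈ normalizer (c.D : Set G) := Subgroup.mem_normalizer_iff.mpr fun x =>
    ⟨c.σ_conj_mem, fun h => by
      have := c.σ_conj_mem h
      rwa [c.σ_inv, show c.σ * (c.σ * x * c.σ) * c.σ = (c.σ * c.σ) * x * (c.σ * c.σ) by group, c.sq,
        one_mul, mul_one] at this⟩
  rintro x (hx | hx)
  · exact Subgroup.le_normalizer hx
  · have := mul_mem (Subgroup.le_normalizer hx) (inv_mem hσ)
    rwa [mul_assoc, mul_inv_cancel, mul_one] at this

variable [Finite G]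

/-- The Sylow subgroup. -/
def S : Sylow 2 G where
  toSubgroup := c.T
  isPGroup' := c.isPGroup_T
  is_maximal' {Q} hQ hle := (Subgroup.eq_of_le_of_card_ge hle (by rw [c.card_T]; exact c.le128 Q hQ)).symm

end Cfg

end CfsgLib.QTWreath
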