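import Cfsg.Prelude.Def_ClassificationK
import Cfsg.Prelude.Def_CaseTheorems
import Cfsg.Agent.Lib.Basic
import Cfsg.Agent.Lib.Coprime
import Cfsg.Agent.Lib.ZStar.Main
import Cfsg.Agent.Lib.QTWreath.Setup

/-!
`C(Z(D)) = D` and `N(D) = T`.

Blueprint: `blueprint/S1829.md`.
-/

set_option autoImplicit false
set_option linter.unusedSectionVars false
set_option linter.style.haveILetI false

universe u

namespace CfsgLib.QTWreath

open Cfsg Subgroup

variable {G : Type u} [Group G]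

/-- Commutators transport along conjugation. -/
theorem conj_comm (h x y : G) : h * x * h⁻¹ * (h * y * h⁻¹) * (h * x * h⁻¹)⁻¹ * (h * y * h⁻¹)⁻¹ =
    h * (x * y * x⁻¹ * y⁻¹) * h⁻¹ := by group

namespace Cfg

variable (c : Cfg G)

theorem z1_mem : c.z1 ∈ c.D := c.g_mem_D d8_mem.2.1 d8_mem.1
theorem z2_mem : c.z2 ∈ c.D := c.g_mem_D d8_mem.1 d8_mem.2.1

theorem g_ne_one {a b : P4} (h : a ≠ 1 ∨ b ≠ 1) : c.g a b ≠ 1 := fun e => by
  obtain ⟨h1, h2⟩ := c.g_inj (e.trans c.g_one.symm)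
  exact h.elim (· h1) (· h2)

theorem z1_comm {x : G} (hx : x ∈ c.D) : x * c.z1 = c.z1 * x := by
  obtain ⟨a, b, ha, -, rfl⟩ := c.mem_D.mp hx
  rw [z1, c.g_mul, c.g_mul, mul_one, one_mul, ha]

theorem z2_comm {x : G} (hx : x ∈ c.D) : x * c.z2 = c.z2 * x := by
  obtain ⟨a, b, -, hb, rfl⟩ := c.mem_D.mp hx
  rw [z2, c.g_mul, c.g_mul, mul_one, one_mul, hb]

theorem σ_z1 : c.σ * c.z1 * c.σ⁻¹ = c.z2 := c.σ_conj _ _

/-- An element normalising `D` permutes `z₁, z₂`. -/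
theorem fix_pair {h : G} (hh : h ∈ normalizer (c.D : Set G)) :
    h * c.z1 * h⁻¹ = c.z1 ∨ h * c.z1 * h⁻¹ = c.z2 := by
  set w := h * c.z1 * h⁻¹ with hw
  set x := h * c.g tp 1 * h⁻¹ with hx
  have hxD : x ∈ c.D := (Subgroup.mem_normalizer_iff.mp hh _).mp (c.g_mem_D d8_mem.2.2.1 d8_mem.1)
  have hcom : ∀ y ∈ c.D, x * y * x⁻¹ * y⁻¹ = 1 ∨ x * y * x⁻¹ * y⁻¹ = w := by
    intro y hy
    have hy0 : h⁻¹ * y * h ∈ c.D := by
      simpa using (Subgroup.mem_normalizer_iff.mp (inv_mem hh) y).mp hy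
    obtain ⟨a, b, ha, -, e⟩ := c.mem_D.mp hy0
    have h1 : x * y * x⁻¹ * y⁻¹ = h * c.g (tp * a * tp⁻¹ * a⁻¹) (1 * b * 1⁻¹ * b⁻¹) * h⁻¹ := by
      rw [← c.g_comm, e, hx, ← conj_comm, show h * (h⁻¹ * y * h) * h⁻¹ = y by group]
    rw [show (1 : P4) * b * 1⁻¹ * b⁻¹ = 1 by group] at h1
    rcases comm_mem tp a d8_mem.2.2.1 ha with e1 | e1
    · left
      rw [h1, e1, c.g_one, mul_one, mul_inv_cancel]
    · right
      rw [h1, e1, hw, z1]
  have hw1 : w ≠ 1 := fun e => c.g_ne_one (a := zp) (b := 1) (Or.inl basics.1) (conj_eq_one_iff.mp e)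
  have hex : x * (h * c.g vp 1 * h⁻¹) * x⁻¹ * (h * c.g vp 1 * h⁻¹)⁻¹ = w := by
    rw [hx, conj_comm, c.g_comm, hw, z1, show tp * vp * tp⁻¹ * vp⁻¹ = zp by decide,
      show (1 : P4) * 1 * 1⁻¹ * 1⁻¹ = 1 by group]
  obtain ⟨a, b, ha, hb, e⟩ := c.mem_D.mp hxD
  obtain ⟨a', b', ha', hb', e'⟩ := c.mem_D.mp
    ((Subgroup.mem_normalizer_iff.mp hh _).mp (c.g_mem_D d8_mem.2.2.2.1 d8_mem.1))
  rw [← e', ← e, c.g_comm] at hex
  have key : ∀ p q : P4, InD8 p → InD8 q → c.g (a * p * a⁻¹ * p⁻¹) (b * q * b⁻¹ * q⁻¹) = 1 ∨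
      c.g (a * p * a⁻¹ * p⁻¹) (b * q * b⁻¹ * q⁻¹) = w := fun p q hp hq => by
    rw [← c.g_comm, e]
    exact hcom _ (c.g_mem_D hp hq)
  have triv : ∀ p q : P4, (p = 1 ∨ p = zp) → InD8 q → p * q * p⁻¹ * q⁻¹ = 1 := by
    rintro p q (rfl | rfl) hq
    · group
    · rw [show zp * q = q * zp from hq.symm]; group
  rcases noncentral a ha with ha1 | ha1 | ⟨p, hp, hap⟩
  · rw [triv a a' (Or.inl ha1) ha'] at hex
    rcases comm_mem b b' hb hb' with e1 | e1 <;> rw [e1] at hex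
    · exact absurd (hex.symm.trans c.g_one) hw1
    · exact Or.inr hex.symm
  · rw [triv a a' (Or.inr ha1) ha'] at hex
    rcases comm_mem b b' hb hb' with e1 | e1 <;> rw [e1] at hex
    · exact absurd (hex.symm.trans c.g_one) hw1
    · exact Or.inr hex.symm
  · rcases noncentral b hb with hb1 | hb1 | ⟨q, hq, hbq⟩
    · rw [triv b b' (Or.inl hb1) hb'] at hex
      rcases comm_mem a a' ha ha' with e1 | e1 <;> rw [e1] at hex
      · exact absurd (hex.symm.trans c.g_one) hw1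
      · exact Or.inl hex.symm
    · rw [triv b b' (Or.inr hb1) hb'] at hex
      rcases comm_mem a a' ha ha' with e1 | e1 <;> rw [e1] at hex
      · exact absurd (hex.symm.trans c.g_one) hw1
      · exact Or.inl hex.symm
    · exfalso
      have k1 := key p 1 hp d8_mem.1
      have k2 := key 1 q d8_mem.1 hq
      rw [hap, show b * 1 * b⁻¹ * 1⁻¹ = 1 by group] at k1
      rw [hbq, show a * 1 * a⁻¹ * 1⁻¹ = 1 by group] at k2
      rcases k1 with k1 | k1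
      · exact c.g_ne_one (Or.inl basics.1) k1
      rcases k2 with k2 | k2
      · exact c.g_ne_one (Or.inr basics.1) k2
      exact basics.1 (c.g_inj (k1.trans k2.symm)).1

variable [Finite G]

/-- A 2-subgroup properly containing `D` moves `z₁`. -/
theorem no128 {B : Subgroup G} (hB : IsPGroup 2 ↥B) (hDB : c.D < B) : ¬ B ≤ centralizer ({c.z1} : Set G) := by
  haveI : Fact (Nat.Prime 2) := ⟨Nat.prime_two⟩
  intro hBC
  have h1 : Nat.card c.D < Nat.card B := lt_of_le_of_ne (Subgroup.card_le_of_le hDB.le)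
    fun e => hDB.ne (Subgroup.eq_of_le_of_card_ge hDB.le e.ge)
  obtain ⟨k, hk⟩ := IsPGroup.iff_card.mp hB
  have h2 := c.le128 B hB
  rw [c.card_D, hk] at h1
  rw [hk] at h2
  have hk7 : k = 7 := by
    have a1 : 6 < k := (Nat.pow_lt_pow_iff_right (le_refl 2)).mp (show 2 ^ 6 < 2 ^ k by simpa using h1)
    have a2 : k ≤ 7 := (Nat.pow_le_pow_iff_right (le_refl 2)).mp (show 2 ^ k ≤ 2 ^ 7 by simpa using h2)
    omega
  subst hk7
  have hidx : (c.D.subgroupOf B).index = 2 := by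
    have h3 := (c.D.subgroupOf B).card_mul_index
    rw [Nat.card_congr (Subgroup.subgroupOfEquivOfLe hDB.le).toEquiv, c.card_D, hk] at h3
    omega
  haveI := Subgroup.normal_of_index_eq_two hidx
  have hBN : B ≤ normalizer (c.D : Set G) := (Subgroup.normal_subgroupOf_iff_le_normalizer hDB.le).mp inferInstance
  set N := normalizer (c.D : Set G) with hN
  let BS : Sylow 2 G :=
    ⟨B, hB, fun {Q} hQ hle => (Subgroup.eq_of_le_of_card_ge hle (by rw [hk]; exact c.le128 Q hQ)).symm⟩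
  obtain ⟨n, hn⟩ := MulAction.exists_smul_eq ↥N (Sylow.subtype (P := c.S) (N := N) c.T_le_normalizer) (Sylow.subtype (P := BS) (N := N) hBN)
  have hmem : ∀ x ∈ c.T, (n : G) * x * (n : G)⁻¹ ∈ B := by
    intro x hx
    have h4 : n * ⟨x, c.T_le_normalizer hx⟩ * n⁻¹ ∈
        ((Sylow.subtype (P := BS) (N := N) hBN : Sylow 2 ↥N) : Subgroup ↥N) := by
      rw [← hn, Sylow.coe_subgroup_smul]
      exact Subgroup.smul_mem_pointwise_smul_iff.mpr (show (⟨x, c.T_le_normalizer hx⟩ : ↥N) ∈ _ from hx)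
    exact h4
  have hσ := Subgroup.mem_centralizer_singleton_iff.mp (hBC (hmem c.σ c.σ_mem_T))
  have hfix : c.σ * ((n : G)⁻¹ * c.z1 * n) * c.σ⁻¹ = (n : G)⁻¹ * c.z1 * n := by
    rw [c.σ_inv]
    calc c.σ * ((n : G)⁻¹ * c.z1 * n) * c.σ
        = (n : G)⁻¹ * ((n : G) * c.σ * (n : G)⁻¹ * c.z1) * n * c.σ := by group
      _ = (n : G)⁻¹ * (c.z1 * ((n : G) * c.σ * (n : G)⁻¹)) * n * c.σ := by rw [hσ]
      _ = (n : G)⁻¹ * c.z1 * n * (c.σ * c.σ) := by group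
      _ = _ := by rw [c.sq, mul_one]
  have hne : c.z1 ≠ c.z2 := fun e => basics.1 (c.g_inj e).1
  rcases c.fix_pair (inv_mem n.2) with e | e <;> rw [inv_inv] at e <;> rw [e] at hfix
  · exact hne (hfix.symm.trans c.σ_z1)
  · rw [← c.σ_z1, c.σ_inv,
      show c.σ * (c.σ * c.z1 * c.σ) * c.σ = (c.σ * c.σ) * c.z1 * (c.σ * c.σ) by group, c.sq, one_mul,
      mul_one] at hfix
    exact hne (hfix.trans (by have h := c.σ_z1; rwa [c.σ_inv] at h))

/-- `C(z₁) ∩ C(z₂)`. -/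
def K : Subgroup G := centralizer ({c.z1} : Set G) ⊓ centralizer ({c.z2} : Set G)

theorem D_le_K : c.D ≤ c.K := fun _ hx =>
  ⟨Subgroup.mem_centralizer_singleton_iff.mpr (c.z1_comm hx),
    Subgroup.mem_centralizer_singleton_iff.mpr (c.z2_comm hx)⟩

/-- `Z(D)`. -/
def ZD : Subgroup G := (((Subgroup.zpowers zp).prod (Subgroup.zpowers zp))).map c.f

theorem zp_pow {a : P4} (ha : a ∈ Subgroup.zpowers zp) : a = 1 ∨ a = zp := by
  obtain ⟨n, rfl⟩ := Subgroup.mem_zpowers_iff.mp ha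
  rcases Int.even_or_odd' n with ⟨m, rfl | rfl⟩
  · left
    rw [zpow_mul, zpow_two, basics.2.2.2.1, one_zpow]
  · right
    rw [zpow_add, zpow_mul, zpow_two, basics.2.2.2.1, one_zpow, one_mul, zpow_one]

theorem mem_ZD {x : G} : x ∈ c.ZD ↔ x = 1 ∨ x = c.z1 ∨ x = c.z2 ∨ x = c.zz := by
  constructor
  · rintro ⟨⟨a, b⟩, ⟨ha, hb⟩, rfl⟩
    show c.g a b = _ ∨ _
    rcases zp_pow ha with e | e <;> rcases zp_pow hb with e' | e' <;> simp only at e e' <;> subst e e'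
    · exact Or.inl c.g_one
    · exact Or.inr (Or.inr (Or.inl rfl))
    · exact Or.inr (Or.inl rfl)
    · exact Or.inr (Or.inr (Or.inr rfl))
  · rintro (rfl | rfl | rfl | rfl)
    · exact one_mem _
    · exact ⟨(zp, 1), ⟨Subgroup.mem_zpowers _, one_mem _⟩, rfl⟩
    · exact ⟨(1, zp), ⟨one_mem _, Subgroup.mem_zpowers _⟩, rfl⟩
    · exact ⟨(zp, zp), ⟨Subgroup.mem_zpowers _, Subgroup.mem_zpowers _⟩, rfl⟩

theorem g_mem_ZD {a b : P4} (ha : a = 1 ∨ a = zp) (hb : b = 1 ∨ b = zp) : c.g a b ∈ c.ZD := by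
  rcases ha with rfl | rfl <;> rcases hb with rfl | rfl <;> exact c.mem_ZD.mpr (by simp [z1, z2, zz, c.g_one])

theorem ZD_le_D : c.ZD ≤ c.D := fun x hx => by
  rcases c.mem_ZD.mp hx with rfl | rfl | rfl | rfl
  · exact one_mem _
  · exact c.z1_mem
  · exact c.z2_mem
  · exact c.g_mem_D d8_mem.2.1 d8_mem.2.1

theorem K_comm_ZD {k x : G} (hk : k ∈ c.K) (hx : x ∈ c.ZD) : k * x = x * k := by
  have h1 := Subgroup.mem_centralizer_singleton_iff.mp hk.1
  have h2 := Subgroup.mem_centralizer_singleton_iff.mp hk.2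
  rcases c.mem_ZD.mp hx with rfl | rfl | rfl | rfl
  · simp
  · exact h1
  · exact h2
  · rw [← c.z1_mul_z2, ← mul_assoc, h1, mul_assoc, h2, mul_assoc]

end Cfg

end CfsgLib.QTWreath
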